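import Cfsg.Agent.Lib.TwoFusion.DihedralFusionMain
import Cfsg.Agent.Lib.Solvable.Core
import Cfsg.Agent.Lib.FT.Final
import Cfsg.Prelude.Def_CaseTheorems
import Mathlib.GroupTheory.IsPerfect

/-!
# Dihedral Sylow 2-subgroups: from perfect groups to simple groups

A perfect group with dihedral Sylow 2-subgroups has one class of involutions, and its quotient by the
odd core is a nonabelian simple group with an isomorphic Sylow 2-subgroup.
-/

set_option autoImplicit false

namespace CfsgLib.GW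

open CfsgLib.TwoFusion.DihedralFusion

variable {X : Type*} [Group X]

theorem index_ne_two_of_perfect [Finite X] [Group.IsPerfect X] (H : Subgroup X) : H.index ≠ 2 := by
  intro hH
  haveI := Subgroup.normal_of_index_eq_two hH
  haveI : Nontrivial (X ⧸ H) := by
    rw [← Finite.one_lt_card_iff_nontrivial]
    rw [← Subgroup.index_eq_card, hH]; omega
  haveI : Fact (Nat.Prime 2) := ⟨Nat.prime_two⟩
  exact Group.IsPerfect.not_isMulCommutative (X ⧸ H)
    (isCyclic_of_prime_card (p := 2) (by rw [← Subgroup.index_eq_card, hH])).isMulCommutative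

variable [Finite X]

/-- A perfect group with dihedral Sylow 2-subgroups has one class of involutions. -/
theorem one_class [Group.IsPerfect X] (S : Sylow 2 X) (n : ℕ) (hn : 2 ≤ n)
    (eS : (S : Subgroup X) ≃* DihedralGroup n) {a b : X} (ha : orderOf a = 2) (hb : orderOf b = 2) :
    IsConj a b := by
  obtain ⟨D⟩ := exists_dihGens S.isPGroup' hn eS
  exact one_class_of_isConj D (isConj_z_of_no_index_two D index_ne_two_of_perfect) ha hb

/-- A Sylow subgroup of the quotient by a normal subgroup of order prime to two. -/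
theorem exists_sylow_quotient (N : Subgroup X) [N.Normal] (hN : (Nat.card N).Coprime 2)
    (S : Sylow 2 X) :
    ∃ T : Sylow 2 (X ⧸ N), (T : Subgroup (X ⧸ N)) = (S : Subgroup X).map (QuotientGroup.mk' N) ∧
      Nonempty ((S : Subgroup X) ≃* (T : Subgroup (X ⧸ N))) := by
  haveI : Fact (Nat.Prime 2) := ⟨Nat.prime_two⟩
  have hsur := QuotientGroup.mk'_surjective N
  refine ⟨S.mapSurjective hsur, S.coe_mapSurjective hsur, ?_⟩
  set f := (QuotientGroup.mk' N).subgroupMap (S : Subgroup X) with hf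
  have hinj : Function.Injective f := by
    rw [injective_iff_map_eq_one]
    intro s hs
    have hsN : (s : X) ∈ N := (QuotientGroup.eq_one_iff _).1 (congrArg Subtype.val hs)
    obtain ⟨k, hk⟩ := IsPGroup.iff_orderOf.1 S.isPGroup' s
    rw [← Subgroup.orderOf_coe] at hk
    have h1 : orderOf (s : X) ∣ Nat.card N := Subgroup.orderOf_dvd_natCard N hsN
    have h2 : (orderOf (s : X)).Coprime (2 ^ k) := (Nat.Coprime.coprime_dvd_left h1 hN).pow_right k
    rw [hk, Nat.coprime_self] at h2
    exact Subtype.ext (orderOf_eq_one_iff.1 (hk.trans h2))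
  refine ⟨(MulEquiv.ofBijective f ⟨hinj, (QuotientGroup.mk' N).subgroupMap_surjective _⟩).trans
    (MulEquiv.subgroupCongr (S.coe_mapSurjective hsur).symm)⟩

/-- A perfect group without odd core whose Sylow 2-subgroups are dihedral is simple. -/
theorem isSimple [Group.IsPerfect X] (hO : Cfsg.oddCore X = ⊥) (S : Sylow 2 X) (n : ℕ) (hn : 2 ≤ n)
    (eS : (S : Subgroup X) ≃* DihedralGroup n) : IsSimpleGroup X ∧ ¬ IsMulCommutative X := by
  haveI : Fact (Nat.Prime 2) := ⟨Nat.prime_two⟩
  obtain ⟨D⟩ := exists_dihGens S.isPGroup' hn eS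
  haveI : Nontrivial X := ⟨D.z, 1, D.z_ne_one⟩
  refine ⟨⟨fun N hN => or_iff_not_imp_left.2 fun hne => ?_⟩, Group.IsPerfect.not_isMulCommutative X⟩
  haveI := hN
  have heven : 2 ∣ Nat.card N := by
    by_contra hc
    refine hne (le_bot_iff.1 ?_)
    rw [← hO]
    exact CfsgLib.Solvable.le_pPrimeCore hN ((Nat.Prime.coprime_iff_not_dvd Nat.prime_two).2 hc).symm
  obtain ⟨t, ht⟩ := exists_prime_orderOf_dvd_card' (G := N) 2 heven
  rw [← Subgroup.orderOf_coe] at ht
  have hall : ∀ u : X, orderOf u = 2 → u ∈ N := fun u hu => by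
    obtain ⟨g, rfl⟩ := isConj_iff.1 (one_class S n hn eS ht hu)
    exact hN.conj_mem _ t.2 g
  have hb : D.b ∈ N := by simpa using hall _ (D.orderOf_refl 0)
  have ha : D.a ∈ N := by
    have h2 := N.mul_mem (hall _ (D.orderOf_refl 1)) (hall _ (D.orderOf_refl 0))
    rwa [D.refl_mul_refl, sub_zero, zpow_one] at h2
  have hSN : (S : Subgroup X) ≤ N := fun s hs => by
    obtain ⟨i, rfl | rfl⟩ := D.cases s hs
    exacts [N.zpow_mem ha i, N.mul_mem (N.zpow_mem ha i) hb]
  have hodd : Odd (Nat.card (X ⧸ N)) := by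
    rw [← Subgroup.index_eq_card, Nat.odd_iff, ← Nat.two_dvd_ne_zero]
    exact fun h => S.not_dvd_index (h.trans (Subgroup.index_dvd_of_le hSN))
  by_contra hN2
  haveI : Nontrivial (X ⧸ N) := not_subsingleton_iff_nontrivial.1 fun h =>
    hN2 (QuotientGroup.subsingleton_iff.1 h)
  exact Group.IsPerfect.not_isSolvable (X ⧸ N) (CfsgLib.FT.solvable_of_odd hodd)

/-- The reduction of the Gorenstein–Walter theorem to simple groups. -/
theorem simple_quotient [Group.IsPerfect X] (S : Sylow 2 X) (n : ℕ) (hn : 2 ≤ n)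
    (eS : (S : Subgroup X) ≃* DihedralGroup n) :
    IsSimpleGroup (X ⧸ Cfsg.oddCore X) ∧ ¬ IsMulCommutative (X ⧸ Cfsg.oddCore X) ∧
      ∃ T : Sylow 2 (X ⧸ Cfsg.oddCore X), Nonempty ((T : Subgroup (X ⧸ Cfsg.oddCore X)) ≃* DihedralGroup n) := by
  obtain ⟨T, -, ⟨e⟩⟩ := exists_sylow_quotient (Cfsg.oddCore X)
    (CfsgLib.Solvable.pPrimeCore_card_coprime 2 X) S
  obtain ⟨h1, h2⟩ := isSimple (X := X ⧸ Cfsg.oddCore X)
    (CfsgLib.Solvable.pPrimeCore_quotient_eq_bot _ rfl) T n hn (e.symm.trans eS)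
  exact ⟨h1, h2, T, ⟨e.symm.trans eS⟩⟩

end CfsgLib.GW
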