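import Cfsg.Agent.Lib.GW.Reduce
import Cfsg.Agent.Lib.PSL2Sub.Maximal
import Cfsg.Agent.Lib.Components.Quasisimple
import Cfsg.Agent.Lib.Linear.PSL2Seven
import Cfsg.Agent.S0253
import Cfsg.Prelude.Def_LocalStructure

/-!
# Involution centralisers in simple groups with dihedral Sylow 2-subgroups, given their classification

The hypothesis `GWStatement` is the statement of the classification of perfect groups with dihedral
Sylow 2-subgroups; nothing here proves it.
-/

set_option autoImplicit false
set_option maxHeartbeats 400000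
set_option linter.style.haveILetI false
set_option linter.unusedSectionVars false

namespace CfsgLib.GW.ConsumerMaximal

open Subgroup

universe u

/-- Perfect groups with dihedral Sylow 2-subgroups are `PSL₂(q)` or `A₇` modulo the odd core. -/
def GWStatement : Prop :=
  ∀ (X : Type u) [Group X] [Finite X] [Group.IsPerfect X] (S : Sylow 2 X) (n : ℕ), 2 ≤ n →
    Nonempty ((S : Subgroup X) ≃* DihedralGroup n) →
    (∃ (F : Type) (_ : Field F) (_ : Fintype F), Odd (Fintype.card F) ∧ 3 < Fintype.card F ∧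
        Nonempty (X ⧸ Cfsg.oddCore X ≃* Matrix.ProjectiveSpecialLinearGroup (Fin 2) F)) ∨
      Nonempty (X ⧸ Cfsg.oddCore X ≃* alternatingGroup (Fin 7))

/-- A nonabelian simple group has no subgroup of itself equal to its Fitting subgroup. -/
theorem genFitting_ne_fitting {K : Type*} [Group K] [Finite K] [IsSimpleGroup K]
    (hna : ¬ IsMulCommutative K) :
    Cfsg.generalizedFittingSubgroup K ≠ Cfsg.fittingSubgroup K := by
  intro h
  have hF : Cfsg.fittingSubgroup K = ⊥ := by
    refine le_bot_iff.1 (sSup_le fun N hN => ?_)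
    rcases hN.1.eq_bot_or_eq_top with h1 | h1
    · exact h1.le
    · exfalso
      subst h1
      haveI := hN.2
      haveI : Group.IsNilpotent K := Group.nilpotent_of_mulEquiv Subgroup.topEquiv
      haveI : Group.IsPerfect K := (CfsgLib.Components.isQuasisimple_of_isSimpleGroup hna).1
      exact Group.IsPerfect.not_isSolvable K inferInstance
  have hc : Cfsg.IsComponent (⊤ : Subgroup K) := by
    haveI : IsSimpleGroup (⊤ : Subgroup K) :=
      (Subgroup.topEquiv : (⊤ : Subgroup K) ≃* K).isSimpleGroup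
    refine ⟨Subgroup.IsSubnormal.top, CfsgLib.Components.isQuasisimple_of_isSimpleGroup ?_⟩
    intro hab
    refine hna ⟨⟨fun a b => ?_⟩⟩
    exact congrArg Subtype.val
      (hab.is_comm.comm (⟨a, Subgroup.mem_top a⟩ : (⊤ : Subgroup K)) ⟨b, Subgroup.mem_top b⟩)
  have htop : (⊤ : Subgroup K) ≤ Cfsg.generalizedFittingSubgroup K :=
    le_trans (le_sSup hc) le_sup_left
  rw [h, hF, le_bot_iff] at htop
  exact top_ne_bot htop

/-- In `PSL₂(q)`, `q` odd and not `3`, `5`, `7` or `9`, the centralizer of some involution is maximal. -/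
theorem exists_coatom_centralizer {F : Type} [Field F] [Fintype F] (hodd : Odd (Fintype.card F))
    (h3 : 3 < Fintype.card F) (h5 : Fintype.card F ≠ 5) (h7 : Fintype.card F ≠ 7)
    (h9 : Fintype.card F ≠ 9)
    (hs : IsSimpleGroup (Matrix.ProjectiveSpecialLinearGroup (Fin 2) F))
    (hna : ¬ IsMulCommutative (Matrix.ProjectiveSpecialLinearGroup (Fin 2) F)) :
    ∃ z : Matrix.ProjectiveSpecialLinearGroup (Fin 2) F,
      orderOf z = 2 ∧ IsCoatom (centralizer ({z} : Set _)) := by
  obtain ⟨n, hn, hn0, H, hH, ⟨e⟩⟩ : ∃ n : ℕ, Even n ∧ 0 < n ∧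
      ∃ H : Subgroup (Matrix.ProjectiveSpecialLinearGroup (Fin 2) F),
        IsCoatom H ∧ Nonempty (H ≃* DihedralGroup n) := by
    set q := Fintype.card F with hq
    obtain ⟨k, hk⟩ := hodd
    have hg : Nat.gcd 2 (q - 1) = 2 := Nat.gcd_eq_left ⟨k, by omega⟩
    rcases Nat.even_or_odd k with ⟨i, hi⟩ | ⟨i, hi⟩
    · refine ⟨(q - 1) / Nat.gcd 2 (q - 1), ⟨i, by rw [hg]; omega⟩, by rw [hg]; omega,
        CfsgLib.PSL2Sub.exists_maximal_dihedral_minus ?_⟩
      simp only [Finset.mem_insert, Finset.mem_singleton, not_or]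
      omega
    · refine ⟨(q + 1) / Nat.gcd 2 (q - 1), ⟨i + 1, by rw [hg]; omega⟩, by rw [hg]; omega,
        CfsgLib.PSL2Sub.exists_maximal_dihedral_plus ?_⟩
      simp only [Finset.mem_insert, Finset.mem_singleton, not_or]
      omega
  obtain ⟨m, hm⟩ := hn
  haveI : NeZero n := ⟨hn0.ne'⟩
  set r : DihedralGroup n := DihedralGroup.r (m : ZMod n) with hr
  have hmm : (m : ZMod n) + m = 0 := by
    rw [← Nat.cast_add, ← hm]; exact ZMod.natCast_self n
  have hr2 : orderOf r = 2 := by
    refine orderOf_eq_prime ?_ ?_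
    · rw [pow_two, hr, DihedralGroup.r_mul_r, hmm]; rfl
    · intro h1
      have h2 : (m : ZMod n) = 0 := by
        rw [hr, DihedralGroup.one_def] at h1
        exact DihedralGroup.r.inj h1
      rw [ZMod.natCast_eq_zero_iff] at h2
      have := Nat.le_of_dvd (by omega) h2
      omega
  have hrc : ∀ x : DihedralGroup n, x * r = r * x := by
    rintro (i | i)
    · rw [hr, DihedralGroup.r_mul_r, DihedralGroup.r_mul_r, add_comm]
    · rw [hr, DihedralGroup.sr_mul_r, DihedralGroup.r_mul_sr]
      congr 1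
      rw [sub_eq_add_neg, neg_eq_of_add_eq_zero_left hmm]
  set z : Matrix.ProjectiveSpecialLinearGroup (Fin 2) F := ((e.symm r : H) :
    Matrix.ProjectiveSpecialLinearGroup (Fin 2) F) with hzdef
  refine ⟨z, ?_, ?_⟩
  · rw [hzdef, Subgroup.orderOf_coe, MulEquiv.orderOf_eq, hr2]
  · have hle : H ≤ centralizer ({z} : Set (Matrix.ProjectiveSpecialLinearGroup (Fin 2) F)) := by
      intro x hx
      rw [Subgroup.mem_centralizer_singleton_iff]
      have := congrArg e.symm (hrc (e ⟨x, hx⟩))
      rw [map_mul, map_mul, e.symm_apply_apply] at this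
      exact congrArg Subtype.val this
    rcases hH.le_iff.mp hle with h | h
    · exfalso
      have h1 : z ∈ Subgroup.center _ := by
        rw [Subgroup.mem_center_iff]
        intro g
        have hg : g ∈ centralizer ({z} : Set (Matrix.ProjectiveSpecialLinearGroup (Fin 2) F)) :=
          h ▸ Subgroup.mem_top g
        exact Subgroup.mem_centralizer_singleton_iff.1 hg
      rcases (inferInstance : (Subgroup.center
          (Matrix.ProjectiveSpecialLinearGroup (Fin 2) F)).Normal).eq_bot_or_eq_top with hc | hc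
      · rw [hc, Subgroup.mem_bot] at h1
        have h2 : orderOf r = 1 := by
          rw [← MulEquiv.orderOf_eq e.symm r, ← Subgroup.orderOf_coe, ← hzdef, h1, orderOf_one]
        omega
      · exact hna ⟨⟨fun a b =>
          (Subgroup.mem_center_iff.1 (hc ▸ Subgroup.mem_top b) a)⟩⟩
    · rw [h]; exact hH

theorem isCoatom_map_equiv {A B : Type*} [Group A] [Group B] (e : A ≃* B) {H : Subgroup A}
    (h : IsCoatom H) : IsCoatom (H.map e.toMonoidHom) :=
  (MulEquiv.mapSubgroup e).isCoatom_iff H |>.2 h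

theorem map_centralizer {A B : Type*} [Group A] [Group B] (e : A ≃* B) (a : A) :
    (centralizer ({a} : Set A)).map e.toMonoidHom = centralizer ({e a} : Set B) := by
  ext b
  constructor
  · rintro ⟨x, hx, rfl⟩
    rw [Subgroup.mem_centralizer_singleton_iff]
    have h := congrArg e (Subgroup.mem_centralizer_singleton_iff.1 hx)
    simpa using h
  · intro hb
    refine ⟨e.symm b, ?_, e.apply_symm_apply b⟩
    rw [SetLike.mem_coe, Subgroup.mem_centralizer_singleton_iff]
    have h := congrArg e.symm (Subgroup.mem_centralizer_singleton_iff.1 hb)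
    simpa using h

/-- Simple groups with dihedral Sylow 2-subgroups in which a centralizer of an involution lies
properly in a subgroup without components. -/
theorem componentFree_overgroup (hGW : GWStatement.{u}) {G : Type u} [Group G] [Finite G]
    [IsSimpleGroup G] (S : Sylow 2 G) (m : ℕ) (eS : ↥(S : Subgroup G) ≃* DihedralGroup m)
    (t : G) (ht : orderOf t = 2) (K : Subgroup G) (hlt : Subgroup.centralizer ({t} : Set G) < K)
    (hK : Cfsg.generalizedFittingSubgroup ↥K = Cfsg.fittingSubgroup ↥K) :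
    Nonempty (G ≃* ↥(alternatingGroup (Fin 5))) ∨ Nonempty (G ≃* ↥(alternatingGroup (Fin 7))) ∨
      (∃ (F : Type) (_ : Field F) (_ : Fintype F), Fintype.card F = 2 ∧
        Nonempty (G ≃* Matrix.ProjectiveSpecialLinearGroup (Fin 3) F)) ∨
      (∃ (F : Type) (_ : Field F) (_ : Fintype F), Fintype.card F = 9 ∧
        Nonempty (G ≃* Matrix.ProjectiveSpecialLinearGroup (Fin 2) F)) := by
  classical
  haveI : Fact (Nat.Prime 2) := ⟨Nat.prime_two⟩
  have hna : ¬ IsMulCommutative G := by
    intro hab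
    have htop : (⊤ : Subgroup G) ≤ centralizer ({t} : Set G) := fun x _ =>
      Subgroup.mem_centralizer_singleton_iff.2 (hab.is_comm.comm x t)
    exact not_le_of_gt hlt (le_top.trans htop)
  haveI hperf : Group.IsPerfect G := (CfsgLib.Components.isQuasisimple_of_isSimpleGroup hna).1
  have hm0 : m ≠ 0 := by
    rintro rfl
    haveI : Finite (DihedralGroup 0) := Finite.of_equiv _ eS.toEquiv
    exact not_finite (DihedralGroup 0)
  have hn : 2 ≤ m := by
    by_contra hc
    have hm1 : m = 1 := by omega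
    subst hm1
    haveI : IsCyclic (S : Subgroup G) :=
      isCyclic_of_prime_card (p := 2) (by rw [Nat.card_congr eS.toEquiv, DihedralGroup.nat_card])
    have hmin : (Nat.card G).minFac = 2 :=
      Nat.minFac_eq_two_iff _ |>.2 (ht ▸ orderOf_dvd_natCard t)
    have hle := IsCyclic.normalizer_le_centralizer hmin (P := S) inferInstance
    have hc' := MonoidHom.ker_transferSylow_isComplement' S hle
    rcases (MonoidHom.transferSylow S hle).normal_ker.eq_bot_or_eq_top with h | h
    · rw [h, Subgroup.isComplement'_bot_left] at hc'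
      exact hna ⟨⟨fun a b => congrArg Subtype.val ((IsCyclic.commGroup (α := (S : Subgroup G))).mul_comm
        ⟨a, hc' ▸ Subgroup.mem_top a⟩ ⟨b, hc' ▸ Subgroup.mem_top b⟩)⟩⟩
    · rw [h, Subgroup.isComplement'_top_left] at hc'
      have h2 : Nat.card (S : Subgroup G) = 2 := by rw [Nat.card_congr eS.toEquiv, DihedralGroup.nat_card]
      rw [hc', Subgroup.card_bot] at h2
      omega
  have hO : Cfsg.oddCore G = ⊥ := by
    rcases (inferInstance : (Cfsg.oddCore G).Normal).eq_bot_or_eq_top with h | h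
    · exact h
    · exfalso
      have h1 : (Nat.card (Cfsg.oddCore G)).Coprime 2 := CfsgLib.Solvable.pPrimeCore_card_coprime 2 G
      rw [h, Subgroup.card_top, Nat.coprime_two_right, Nat.odd_iff] at h1
      have := ht ▸ orderOf_dvd_natCard t
      omega
  have eQ : G ⧸ Cfsg.oddCore G ≃* G :=
    (QuotientGroup.quotientMulEquivOfEq hO).trans QuotientGroup.quotientBot
  rcases hGW G S m hn ⟨eS⟩ with ⟨F, _, _, hodd, h3, ⟨e⟩⟩ | hA7
  swap
  · obtain ⟨e⟩ := hA7
    exact Or.inr (Or.inl ⟨eQ.symm.trans e⟩)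
  set f := eQ.symm.trans e with hf
  by_cases h5 : Fintype.card F = 5
  · obtain ⟨g⟩ := Cfsg.Agent.S0253.result h5
    exact Or.inl ⟨f.trans g⟩
  by_cases h7 : Fintype.card F = 7
  · obtain ⟨g⟩ := CfsgLib.Linear.PSL2Seven.exists_PSL2_equiv_PSL3 (K := ZMod 2) h7 (ZMod.card 2)
    exact Or.inr (Or.inr (Or.inl ⟨ZMod 2, inferInstance, inferInstance, ZMod.card 2, ⟨f.trans g⟩⟩))
  by_cases h9 : Fintype.card F = 9
  · exact Or.inr (Or.inr (Or.inr ⟨F, inferInstance, inferInstance, h9, ⟨f⟩⟩))
  exfalso
  have hsP : IsSimpleGroup (Matrix.ProjectiveSpecialLinearGroup (Fin 2) F) := f.symm.isSimpleGroup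
  have hnaP : ¬ IsMulCommutative (Matrix.ProjectiveSpecialLinearGroup (Fin 2) F) := fun h =>
    hna ⟨⟨fun a b => f.injective (by rw [map_mul, map_mul]; exact h.is_comm.comm _ _)⟩⟩
  obtain ⟨z, hz, hzc⟩ := exists_coatom_centralizer hodd h3 h5 h7 h9 hsP hnaP
  have hw : orderOf (f.symm z) = 2 := by rw [MulEquiv.orderOf_eq, hz]
  obtain ⟨g, hg⟩ := isConj_iff.1 (CfsgLib.GW.one_class S m hn eS hw ht)
  set φ : Matrix.ProjectiveSpecialLinearGroup (Fin 2) F ≃* G :=
    f.symm.trans (MulAut.conj g) with hφ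
  have hcG : IsCoatom (centralizer ({t} : Set G)) := by
    have hφz : φ z = t := by rw [hφ, MulEquiv.trans_apply, MulAut.conj_apply, hg]
    rw [← hφz, ← map_centralizer φ z]
    exact isCoatom_map_equiv φ hzc
  have hKtop : K = ⊤ := hcG.2 K hlt
  subst hKtop
  haveI : IsSimpleGroup (⊤ : Subgroup G) := (Subgroup.topEquiv : (⊤ : Subgroup G) ≃* G).isSimpleGroup
  refine genFitting_ne_fitting (K := (⊤ : Subgroup G)) (fun h => hna ⟨⟨fun a b => ?_⟩⟩) hK
  exact congrArg Subtype.val
    (h.is_comm.comm (⟨a, Subgroup.mem_top a⟩ : (⊤ : Subgroup G)) ⟨b, Subgroup.mem_top b⟩)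

end CfsgLib.GW.ConsumerMaximal
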