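import Cfsg.Agent.Lib.TwoFusion.DihedralFusionMain
import Cfsg.Agent.Lib.TwoFusion.ConjUtil
import Cfsg.Agent.Lib.Solvable.Core
import Cfsg.Agent.Lib.Case.TwoNilpotent
import Cfsg.Agent.Lib.FT.Final
import Mathlib.GroupTheory.FixedPointFree

/-!
# Groups with dihedral Sylow 2-subgroups in which four-groups have 2-groups as centralizers

Basic facts: frames, pairs of involutions, normal 2-complements of cyclic Sylow subgroups,
and the centralizers of involutions.
-/

set_option autoImplicit false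
set_option linter.style.haveILetI false

namespace CfsgLib.GW.FpfFour

open Subgroup CfsgLib.TwoFusion CfsgLib.TwoFusion.DihedralFusion

universe u

/-! ### General lemmas -/

section General

variable {G : Type*} [Group G]

theorem conj_orderOf (g x : G) : orderOf (g * x * g⁻¹) = orderOf x :=
  (MulAut.conj g).orderOf_eq x

theorem mul_self_of_orderOf_two {u : G} (hu : orderOf u = 2) : u * u = 1 := by
  rw [← pow_two, ← hu]; exact pow_orderOf_eq_one u

theorem ne_one_of_orderOf_two {u : G} (hu : orderOf u = 2) : u ≠ 1 := fun h => by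
  rw [h, orderOf_one] at hu; omega

theorem eq_one_of_sq_of_odd {x : G} (hx : Odd (orderOf x)) (h : x * x = 1) : x = 1 := by
  rw [← orderOf_eq_one_iff]
  exact Nat.eq_one_of_dvd_coprimes (Nat.coprime_two_right.2 hx) dvd_rfl
    (orderOf_dvd_of_pow_eq_one (by rw [pow_two, h]))

theorem not_odd_orderOf_two {u : G} (hu : orderOf u = 2) : ¬ Odd (orderOf u) := by
  rw [hu]; decide

variable [Finite G]

theorem odd_orderOf_of_mem {K : Subgroup G} (hK : Odd (Nat.card K)) {x : G} (hx : x ∈ K) :
    Odd (orderOf x) :=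
  hK.of_dvd_nat (Subgroup.orderOf_dvd_natCard K hx)

/-- An involution inverting a product with another one: `u (uw) u = (uw)⁻¹`. -/
theorem invol_conj_pow {u w : G} (hu : orderOf u = 2) (hw : orderOf w = 2) (m : ℕ) :
    u * (u * w) ^ m = ((u * w) ^ m)⁻¹ * u := by
  have hu2 := mul_self_of_orderOf_two hu
  have hw2 := mul_self_of_orderOf_two hw
  have hinv : (u * w)⁻¹ = w * u := inv_eq_of_mul_eq_one_right (by
    rw [mul_assoc, ← mul_assoc w w u, hw2, one_mul, hu2])
  induction m with
  | zero => simp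
  | succ m ih =>
    rw [pow_succ, ← mul_assoc, ih, mul_inv_rev, hinv, mul_assoc, ← mul_assoc u u w, hu2, one_mul]
    calc ((u * w) ^ m)⁻¹ * w = ((u * w) ^ m)⁻¹ * (w * u) * u := by
          rw [mul_assoc, mul_assoc, hu2, mul_one]
      _ = w * u * ((u * w) ^ m)⁻¹ * u := by
          congr 1
          have hc : Commute ((u * w) ^ m)⁻¹ (u * w)⁻¹ :=
            (((Commute.refl (u * w)).pow_left m).inv_left).inv_right
          rw [← hinv]
          exact hc.eq

/-- Two involutions have either a common commuting involution which is a power of their product,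
or are conjugate by a power of their product. -/
theorem invol_pair {u w : G} (hu : orderOf u = 2) (hw : orderOf w = 2) :
    (∃ c ∈ zpowers (u * w), orderOf c = 2 ∧ Commute u c) ∨
      (Odd (orderOf (u * w)) ∧ ∃ c ∈ zpowers (u * w), c * u * c⁻¹ = w) := by
  have hu2 := mul_self_of_orderOf_two hu
  set r := u * w with hr
  rcases Nat.even_or_odd (orderOf r) with ⟨m, hm⟩ | ⟨m, hm⟩
  · left
    have hpos := orderOf_pos r
    have ho : orderOf (r ^ m) = 2 := by
      rw [orderOf_pow_of_dvd (by omega) ⟨2, by omega⟩, hm,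
        show m + m = 2 * m by omega, Nat.mul_div_cancel _ (by omega)]
    refine ⟨r ^ m, pow_mem (mem_zpowers r) m, ho, ?_⟩
    have h := invol_conj_pow hu hw m
    rw [inv_eq_of_mul_eq_one_right (mul_self_of_orderOf_two ho)] at h
    exact h
  · right
    refine ⟨⟨m, hm⟩, r ^ m, pow_mem (mem_zpowers r) m, ?_⟩
    have h := invol_conj_pow hu hw m
    have h2 : u * (r ^ m)⁻¹ = r ^ m * u := by
      rw [mul_inv_eq_iff_eq_mul, mul_assoc, h, ← mul_assoc, mul_inv_cancel, one_mul]
    rw [← h2, mul_assoc, ← mul_inv_rev, ← pow_add,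
      inv_eq_of_mul_eq_one_right (b := r) (by
        rw [← pow_succ, show m + m + 1 = orderOf r by omega, pow_orderOf_eq_one]),
      hr, ← mul_assoc, hu2, one_mul]

/-- A group with a cyclic Sylow `2`-subgroup has a normal `2`-complement. -/
theorem complement_of_cyclic (T : Sylow 2 G) (hT : IsCyclic (T : Subgroup G)) :
    ∃ l, (Cfsg.pPrimeCore 2 G).index = 2 ^ l :=
  CfsgLib.Case.index_oddCore_of_cyclic (T : Subgroup G) T.isPGroup'
    (FusionTools.sylow_index_odd T) hT

theorem core_odd : Odd (Nat.card (Cfsg.pPrimeCore 2 G)) :=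
  Nat.coprime_two_right.1 (CfsgLib.Solvable.pPrimeCore_card_coprime 2 G)

theorem mem_core_of_odd {l : ℕ} (hl : (Cfsg.pPrimeCore 2 G).index = 2 ^ l) {x : G}
    (hx : Odd (orderOf x)) : x ∈ Cfsg.pPrimeCore 2 G := by
  haveI := CfsgLib.Solvable.pPrimeCore_normal 2 G
  exact FusionTools.mem_normal_of_odd hl hx

theorem isSolvable_of_cyclic {G : Type u} [Group G] [Finite G] (T : Sylow 2 G)
    (hT : IsCyclic (T : Subgroup G)) : Group.IsSolvable G := by
  obtain ⟨l, hl⟩ := complement_of_cyclic T hT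
  haveI := CfsgLib.Solvable.pPrimeCore_normal 2 G
  haveI : Fact (Nat.Prime 2) := ⟨Nat.prime_two⟩
  haveI : Group.IsSolvable (Cfsg.pPrimeCore 2 G) := CfsgLib.FT.solvable_of_odd core_odd
  have hp : IsPGroup 2 (G ⧸ Cfsg.pPrimeCore 2 G) := IsPGroup.of_card (n := l) (by
    rw [← hl, Subgroup.index])
  haveI : Group.IsNilpotent (G ⧸ Cfsg.pPrimeCore 2 G) := hp.isNilpotent
  haveI : Group.IsSolvable (G ⧸ Cfsg.pPrimeCore 2 G) := inferInstance
  exact Group.isSolvable_of_ker_le_range (Cfsg.pPrimeCore 2 G).subtype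
    (QuotientGroup.mk' (Cfsg.pPrimeCore 2 G))
    (by rw [QuotientGroup.ker_mk', Subgroup.range_subtype])

/-- Transport of dihedral generators by an injective homomorphism. -/
def mapGens {X : Type*} [Group X] {S : Subgroup X} (D : DihGens S) {f : X →* G}
    (hf : Function.Injective f) {T : Subgroup G} (hT : T = S.map f) : DihGens T where
  k := D.k
  a := f D.a
  b := f D.b
  ha := hT ▸ mem_map_of_mem f D.ha
  hb := hT ▸ mem_map_of_mem f D.hb
  order_a := (orderOf_injective f hf D.a).trans D.order_a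
  b_sq := by rw [← map_mul, D.b_sq, map_one]
  b_not_mem := fun h => D.b_not_mem (by
    obtain ⟨i, hi⟩ := mem_zpowers_iff.1 h
    exact ⟨i, hf (by rw [map_zpow]; exact hi)⟩)
  inv := by rw [← map_inv, ← map_mul, ← map_mul, D.inv, map_inv]
  card := by rw [hT, card_map_of_injective hf, D.card]
  cases := fun s hs => by
    rw [hT] at hs
    obtain ⟨x, hx, rfl⟩ := hs
    obtain ⟨i, rfl | rfl⟩ := D.cases x hx
    · exact ⟨i, Or.inl (map_zpow f _ _)⟩
    · exact ⟨i, Or.inr (by rw [map_mul, map_zpow])⟩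

end General

/-! ### The hypothesis -/

/-- Dihedral Sylow `2`-subgroups, one class of involutions, and `2`-groups as centralizers of
four-groups. -/
structure Hyp (G : Type u) [Group G] : Prop where
  fpf : ∀ V : Subgroup G, IsKleinFour V → ∀ x ∈ centralizer (V : Set G), Odd (orderOf x) → x = 1
  one_class : ∀ a b : G, orderOf a = 2 → orderOf b = 2 → IsConj a b
  sylow : ∃ S : Sylow 2 G, Nonempty (DihGens (S : Subgroup G))
  cent : ∀ z : G, orderOf z = 2 →
    ∃ l, (Cfsg.pPrimeCore 2 ↥(centralizer ({z} : Set G))).index = 2 ^ l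

variable {G : Type u} [Group G] [Finite G]

/-- Every involution is the distinguished one of a Sylow subgroup through a given `2`-subgroup of
its centralizer. -/
theorem exists_frame (H : Hyp G) {v : G} (hv : orderOf v = 2) (V : Subgroup G) (hV : IsPGroup 2 V)
    (hVC : V ≤ centralizer ({v} : Set G)) :
    ∃ (T : Sylow 2 G) (D : DihGens (T : Subgroup G)), D.z = v ∧ V ≤ (T : Subgroup G) := by
  obtain ⟨S, ⟨D⟩⟩ := H.sylow
  obtain ⟨g, hg⟩ := isConj_iff.1 (H.one_class D.z v D.orderOf_z hv)
  set C := centralizer ({v} : Set G) with hC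
  let S1 : Sylow 2 G := S.mapSurjective (f := (MulAut.conj g).toMonoidHom) (MulAut.conj g).surjective
  have hS1 : (S1 : Subgroup G) = (S : Subgroup G).map (MulAut.conj g).toMonoidHom := rfl
  have hS1C : (S1 : Subgroup G) ≤ C := by
    rw [hS1]
    rintro _ ⟨s, hs, rfl⟩
    rw [hC, mem_centralizer_singleton_iff]
    change g * s * g⁻¹ * v = v * (g * s * g⁻¹)
    rw [← hg]
    calc g * s * g⁻¹ * (g * D.z * g⁻¹) = g * (s * D.z) * g⁻¹ := by group
      _ = g * (D.z * s) * g⁻¹ := by rw [(D.z_comm hs).eq]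
      _ = g * D.z * g⁻¹ * (g * s * g⁻¹) := by group
  obtain ⟨c, hc, hcV⟩ := FusionTools.exists_conj_le C (S1 : Subgroup G) V S1.isPGroup' hS1C
    ((FusionTools.sylow_index_odd S1).of_dvd_nat (Dvd.intro _ (relIndex_mul_index hS1C))) hV hVC
  let T : Sylow 2 G := S.mapSurjective (f := (MulAut.conj (c⁻¹ * g)).toMonoidHom)
    (MulAut.conj (c⁻¹ * g)).surjective
  have hT : (T : Subgroup G) = (S : Subgroup G).map (MulAut.conj (c⁻¹ * g)).toMonoidHom := rfl
  refine ⟨T, mapGens D (MulAut.conj (c⁻¹ * g)).injective hT, ?_, fun x hx => ?_⟩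
  · show ((MulAut.conj (c⁻¹ * g)).toMonoidHom D.a) ^ ((2 ^ D.k : ℕ) : ℤ) = v
    rw [← map_zpow]
    show c⁻¹ * g * D.z * (c⁻¹ * g)⁻¹ = v
    calc c⁻¹ * g * D.z * (c⁻¹ * g)⁻¹ = c⁻¹ * (g * D.z * g⁻¹) * c := by group
      _ = c⁻¹ * (v * c) := by rw [hg, mul_assoc]
      _ = c⁻¹ * (c * v) := by rw [mem_centralizer_singleton_iff.1 hc]
      _ = v := by group
  · obtain ⟨s, hs, hsx⟩ : c * x * c⁻¹ ∈ (S : Subgroup G).map (MulAut.conj g).toMonoidHom :=
      hS1 ▸ hcV x hx
    rw [hT]
    refine ⟨s, hs, ?_⟩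
    change g * s * g⁻¹ = c * x * c⁻¹ at hsx
    show c⁻¹ * g * s * (c⁻¹ * g)⁻¹ = x
    calc c⁻¹ * g * s * (c⁻¹ * g)⁻¹ = c⁻¹ * (g * s * g⁻¹) * c := by group
      _ = x := by rw [hsx]; group

/-- An involution of a frame which is not the distinguished one is a reflection. -/
theorem exists_refl {T : Sylow 2 G} (D : DihGens (T : Subgroup G)) {s : G}
    (hs : s ∈ (T : Subgroup G)) (h2 : orderOf s = 2) (hne : s ≠ D.z) :
    ∃ i : ℤ, s = D.a ^ i * D.b :=
  (involution_cases D hs h2).resolve_left hne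

/-- The frame of a commuting pair of involutions. -/
theorem exists_frame_pair (H : Hyp G) {s t : G} (hs : orderOf s = 2) (ht : orderOf t = 2)
    (hne : s ≠ t) (hst : Commute s t) :
    ∃ (T : Sylow 2 G) (D : DihGens (T : Subgroup G)) (i : ℤ), D.z = t ∧ s = D.a ^ i * D.b := by
  obtain ⟨T, D, hz, hle⟩ := exists_frame H ht (zpowers s)
    (IsPGroup.of_card (n := 1) (by rw [Nat.card_zpowers, hs, pow_one]))
    (zpowers_le.2 (mem_centralizer_singleton_iff.2 hst))
  obtain ⟨i, hi⟩ := exists_refl D (hle (mem_zpowers s)) hs (hz ▸ hne)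
  exact ⟨T, D, i, hz, hi⟩

/-- No element of odd order centralizes two commuting involutions. -/
theorem eq_one_of_comm (H : Hyp G) {s t x : G} (hs : orderOf s = 2) (ht : orderOf t = 2)
    (hne : s ≠ t) (hst : Commute s t) (hsx : Commute x s) (htx : Commute x t)
    (hx : Odd (orderOf x)) : x = 1 := by
  obtain ⟨T, D, i, rfl, rfl⟩ := exists_frame_pair H hs ht hne hst
  refine H.fpf (D.four i) (D.four_isKleinFour i) x (mem_centralizer_iff.2 fun y hy => ?_) hx
  rcases D.mem_four.1 hy with rfl | rfl | rfl | rfl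
  · simp
  · exact htx.eq.symm
  · exact hsx.eq.symm
  · exact (htx.mul_right hsx).eq.symm

/-! ### Centralizers of elements of odd order -/

/-- Commuting involutions centralizing a nontrivial element of odd order are equal. -/
theorem eq_of_comm (H : Hyp G) {y : G} (hy : Odd (orderOf y)) (hy1 : y ≠ 1) {s t : G}
    (hs : orderOf s = 2) (ht : orderOf t = 2) (hst : Commute s t) (hsy : Commute y s)
    (hty : Commute y t) : s = t :=
  by_contra fun hne => hy1 (eq_one_of_comm H hs ht hne hst hsy hty hy)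

/-- Involutions centralizing a nontrivial element of odd order are conjugate by an odd power of
their product. -/
theorem exists_conj_of_cent (H : Hyp G) {y : G} (hy : Odd (orderOf y)) (hy1 : y ≠ 1) {s t : G}
    (hs : orderOf s = 2) (ht : orderOf t = 2) (hsy : Commute y s) (hty : Commute y t) :
    Odd (orderOf (s * t)) ∧ ∃ c ∈ zpowers (s * t), c * s * c⁻¹ = t := by
  rcases invol_pair hs ht with ⟨c, hc, hc2, hsc⟩ | h
  · exfalso
    obtain ⟨i, rfl⟩ := mem_zpowers_iff.1 hc
    have hcy : Commute y ((s * t) ^ i) := (hsy.mul_right hty).zpow_right i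
    have he := eq_of_comm H hy hy1 hs hc2 hsc hsy hcy
    have hc' : Commute s (s * t) := by
      nth_rw 1 [he]
      exact (Commute.refl (s * t)).zpow_left i
    have hst : Commute s t := by
      have h := hc'.eq
      rw [mul_assoc] at h
      exact mul_left_cancel h
    have h2 : t = s := (eq_of_comm H hy hy1 ht hs hst.symm hty hsy)
    rw [h2, mul_self_of_orderOf_two hs, one_zpow, orderOf_one] at hc2
    omega
  · exact h

/-- A `2`-group centralizing a nontrivial element of odd order is cyclic. -/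
theorem isCyclic_two_subgroup (H : Hyp G) {y : G} (hy : Odd (orderOf y)) (hy1 : y ≠ 1)
    {W : Subgroup G} (hW : IsPGroup 2 W) (hWy : W ≤ centralizer ({y} : Set G)) : IsCyclic W := by
  obtain ⟨S, ⟨D0⟩⟩ := H.sylow
  obtain ⟨T, hWT⟩ := hW.exists_le_sylow
  obtain ⟨g, hg⟩ := ConjUtil.sylow_eq_conjMap S T
  let D := mapGens D0 (MulAut.conj g).injective hg
  have hcomm : ∀ w ∈ W, Commute y w := fun w hw => (mem_centralizer_singleton_iff.1 (hWy hw)).symm
  by_cases hrot : W ≤ zpowers D.a
  · exact isCyclic_of_injective (Subgroup.inclusion hrot) (Subgroup.inclusion_injective hrot)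
  obtain ⟨r, hrW, hr⟩ := SetLike.not_le_iff_exists.1 hrot
  obtain ⟨i, rfl | rfl⟩ := D.cases r (hWT hrW)
  · exact absurd (zpow_mem (mem_zpowers D.a) i) hr
  set r := D.a ^ i * D.b with hrdef
  have hzW : D.z ∉ W := fun hz => D.z_ne_refl i
    (eq_of_comm H hy hy1 D.orderOf_z (D.orderOf_refl i) (D.z_comm (D.refl_mem i)) (hcomm _ hz)
      (hcomm _ hrW))
  -- no rotation of `W` is nontrivial
  have hrotW : ∀ w ∈ W, w ∈ zpowers D.a → w = 1 := by
    intro w hw hwa
    obtain ⟨k, hk⟩ := IsPGroup.iff_orderOf.1 hW ⟨w, hw⟩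
    rw [Subgroup.orderOf_mk] at hk
    rcases k with _ | k
    · rwa [pow_zero, orderOf_eq_one_iff] at hk
    · exfalso
      have ho : orderOf (w ^ 2 ^ k) = 2 := by
        rw [orderOf_pow_of_dvd (pow_ne_zero _ two_ne_zero) (by rw [hk]; exact pow_dvd_pow 2 (by omega)),
          hk, Nat.pow_div (by omega) two_pos, show k + 1 - k = 1 by omega, pow_one]
      rcases D.rot_sq_eq_one (pow_mem hwa _) (mul_self_of_orderOf_two ho) with h | h
      · exact ne_one_of_orderOf_two ho h
      · exact hzW (h ▸ pow_mem hw _)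
  have hle : W ≤ zpowers r := by
    intro w hw
    obtain ⟨j, hj | hj⟩ := D.cases w (hWT hw)
    · rw [hrotW w hw ⟨j, hj.symm⟩]; exact one_mem _
    · have h := hrotW (w * r) (mul_mem hw hrW) (by
        rw [hj, hrdef, D.refl_mul_refl]; exact zpow_mem (mem_zpowers D.a) _)
      rw [eq_inv_of_mul_eq_one_left h]
      exact inv_mem (mem_zpowers r)
  exact isCyclic_of_injective (Subgroup.inclusion hle) (Subgroup.inclusion_injective hle)

/-- The Sylow `2`-subgroups of a centralizer of a nontrivial element of odd order are cyclic. -/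
theorem isCyclic_sylow_cent (H : Hyp G) {y : G} (hy : Odd (orderOf y)) (hy1 : y ≠ 1)
    {K : Subgroup G} (hK : K ≤ centralizer ({y} : Set G)) (T : Sylow 2 K) :
    IsCyclic (T : Subgroup K) := by
  have h := isCyclic_two_subgroup H hy hy1 (T.isPGroup'.map K.subtype)
    ((map_subtype_le _).trans hK)
  exact isCyclic_of_injective
    ((T : Subgroup K).equivMapOfInjective K.subtype K.subtype_injective).toMonoidHom
    ((T : Subgroup K).equivMapOfInjective K.subtype K.subtype_injective).injective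

theorem isSolvable_cent (H : Hyp G) {y : G} (hy : Odd (orderOf y)) (hy1 : y ≠ 1) :
    Group.IsSolvable ↥(centralizer ({y} : Set G)) := by
  haveI : Fact (Nat.Prime 2) := ⟨Nat.prime_two⟩
  obtain ⟨T⟩ := (inferInstance : Nonempty (Sylow 2 ↥(centralizer ({y} : Set G))))
  exact isSolvable_of_cyclic T (isCyclic_sylow_cent H hy hy1 le_rfl T)

end CfsgLib.GW.FpfFour
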