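import Cfsg.Agent.Lib.GW.KleinBasic
import Cfsg.Agent.Lib.Balance.Orbit
import Cfsg.Agent.Lib.Solvable.CoprimeGeneration

/-!
# Groups with dihedral Sylow 2-subgroups and fixed-point-free four-groups

The centralizer of an involution, the odd cores of centralizers of subgroups of its odd core, and
invariant Sylow subgroups.
-/

set_option autoImplicit false
set_option linter.style.haveILetI false

namespace CfsgLib.GW.FpfFour

open Subgroup CfsgLib.TwoFusion CfsgLib.TwoFusion.DihedralFusion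

universe u

variable {G : Type u} [Group G] [Finite G]

/-- The odd core of a subgroup, inside the whole group. -/
abbrev oddPart (K : Subgroup G) : Subgroup G := CfsgLib.Balance.coreP 2 K

theorem oddPart_odd (K : Subgroup G) : Odd (Nat.card (oddPart K)) :=
  Nat.coprime_two_right.1 (CfsgLib.Balance.coreP_coprime 2 K)

theorem mem_oddPart_of_odd {K : Subgroup G} {l : ℕ}
    (hl : (Cfsg.pPrimeCore 2 K).index = 2 ^ l) {x : G} (hx : x ∈ K) (ho : Odd (orderOf x)) :
    x ∈ oddPart K :=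
  ⟨⟨x, hx⟩, mem_core_of_odd hl (by rw [Subgroup.orderOf_mk]; exact ho), rfl⟩

/-- The odd core of the centralizer of an element. -/
abbrev U (z : G) : Subgroup G := oddPart (centralizer ({z} : Set G))

theorem odd_of_mem_U {z y : G} (hy : y ∈ U z) : Odd (orderOf y) :=
  odd_orderOf_of_mem (oddPart_odd _) hy

theorem commute_of_mem_U {z y : G} (hy : y ∈ U z) : Commute y z :=
  mem_centralizer_singleton_iff.1 (CfsgLib.Balance.coreP_le 2 _ hy)

theorem conj_mem_U {z c y : G} (hc : c ∈ centralizer ({z} : Set G)) (hy : y ∈ U z) :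
    c * y * c⁻¹ ∈ U z :=
  le_normalizer_iff.1 (CfsgLib.Balance.le_normalizer_coreP 2 _) c hc y hy

theorem mem_U (H : Hyp G) {z y : G} (hz : orderOf z = 2) (hy : Commute y z)
    (ho : Odd (orderOf y)) : y ∈ U z := by
  obtain ⟨l, hl⟩ := H.cent z hz
  exact mem_oddPart_of_odd hl (mem_centralizer_singleton_iff.2 hy) ho

variable {T : Sylow 2 G} (D : DihGens (T : Subgroup G))

theorem sylow_le_cent : (T : Subgroup G) ≤ centralizer ({D.z} : Set G) := fun _ hs =>
  mem_centralizer_singleton_iff.2 (D.z_comm hs).eq.symm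

theorem decomp (H : Hyp G) {c : G} (hc : c ∈ centralizer ({D.z} : Set G)) :
    ∃ y ∈ U D.z, ∃ σ ∈ (T : Subgroup G), c = y * σ := by
  obtain ⟨l, hl⟩ := H.cent D.z D.orderOf_z
  set C := centralizer ({D.z} : Set G) with hC
  haveI := CfsgLib.Solvable.pPrimeCore_normal 2 C
  have h2 : Odd ((T : Subgroup G).subgroupOf C).index :=
    (FusionTools.sylow_index_odd T).of_dvd_nat (relIndex_dvd_index_of_le (sylow_le_cent D))
  have htop : Cfsg.pPrimeCore 2 C ⊔ (T : Subgroup G).subgroupOf C = ⊤ := by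
    rw [← index_eq_one]
    exact Nat.eq_one_of_dvd_coprimes ((Nat.coprime_two_left.2 h2).pow_left l)
      ((index_dvd_of_le le_sup_left).trans hl.dvd) (index_dvd_of_le le_sup_right)
  have hm : (⟨c, hc⟩ : C) ∈ Cfsg.pPrimeCore 2 C ⊔ (T : Subgroup G).subgroupOf C := htop ▸ mem_top _
  obtain ⟨y, hy, σ, hσ, e⟩ := mem_sup_of_normal_left.1 hm
  exact ⟨y, ⟨y, hy, rfl⟩, σ, hσ, (congrArg Subtype.val e).symm⟩

/-- Reflections invert the odd core of the centralizer. -/
theorem refl_inverts (H : Hyp G) (i : ℤ) {y : G} (hy : y ∈ U D.z) :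
    (D.a ^ i * D.b) * y * (D.a ^ i * D.b)⁻¹ = y⁻¹ := by
  set r := D.a ^ i * D.b with hr
  have hrr : r * r = 1 := D.refl_sq i
  have hrC : r ∈ centralizer ({D.z} : Set G) := sylow_le_cent D (D.refl_mem i)
  let φ : U D.z →* U D.z :=
    MonoidHom.mk' (fun x => ⟨r * x * r⁻¹, conj_mem_U hrC x.2⟩) fun a b => Subtype.ext (by
      show r * ((a : G) * b) * r⁻¹ = r * a * r⁻¹ * (r * b * r⁻¹)
      group)
  have hfix : MonoidHom.FixedPointFree φ := fun x hx => by
    refine Subtype.ext ?_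
    refine eq_one_of_comm H (D.orderOf_refl i) D.orderOf_z (D.z_ne_refl i).symm
      (D.z_comm (D.refl_mem i)).symm ?_ (commute_of_mem_U x.2) (odd_of_mem_U x.2)
    have h : r * (x : G) * r⁻¹ = x := congrArg Subtype.val hx
    exact (mul_inv_eq_iff_eq_mul.1 h).symm
  have hinv : Function.Involutive φ := fun x => Subtype.ext (by
    show r * (r * (x : G) * r⁻¹) * r⁻¹ = x
    rw [show r * (r * (x : G) * r⁻¹) * r⁻¹ = (r * r) * x * (r * r)⁻¹ by group, hrr]
    simp)
  have h := congrFun (hfix.coe_eq_inv_of_involutive hinv) ⟨y, hy⟩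
  exact congrArg Subtype.val h

theorem U_comm (H : Hyp G) {x y : G} (hx : x ∈ U D.z) (hy : y ∈ U D.z) : Commute x y := by
  have h : (D.a ^ (0:ℤ) * D.b) * (x * y) * (D.a ^ (0:ℤ) * D.b)⁻¹ = (x * y)⁻¹ :=
    refl_inverts D H 0 (mul_mem hx hy)
  rw [show ∀ r : G, r * (x * y) * r⁻¹ = r * x * r⁻¹ * (r * y * r⁻¹) from fun r => by group,
    refl_inverts D H 0 hx, refl_inverts D H 0 hy, ← mul_inv_rev, inv_inj] at h
  exact h.symm

theorem rot_comm (H : Hyp G) (j : ℤ) {y : G} (hy : y ∈ U D.z) : Commute (D.a ^ j) y := by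
  have h1 := refl_inverts D H 0 hy
  have h2 := refl_inverts D H j (inv_mem hy)
  have e : D.a ^ j = (D.a ^ j * D.b) * (D.a ^ (0 : ℤ) * D.b) := by rw [D.refl_mul_refl, sub_zero]
  refine mul_inv_eq_iff_eq_mul.1 ?_
  rw [e]
  calc (D.a ^ j * D.b) * (D.a ^ (0:ℤ) * D.b) * y * ((D.a ^ j * D.b) * (D.a ^ (0:ℤ) * D.b))⁻¹
      = (D.a ^ j * D.b) * ((D.a ^ (0:ℤ) * D.b) * y * (D.a ^ (0:ℤ) * D.b)⁻¹) *
          (D.a ^ j * D.b)⁻¹ := by group
    _ = y := by rw [h1, h2, inv_inv]

/-- Another reflection of the same four-group. -/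
theorem z_mul_refl (i : ℤ) :
    D.z * (D.a ^ i * D.b) = D.a ^ (((2 ^ D.k : ℕ) : ℤ) + i) * D.b := by
  rw [DihGens.z, ← mul_assoc, ← zpow_add]

omit D in
/-- The centralizer of an involution lies in an overgroup of the centralizer of one of its odd
elements and of a commuting involution. -/
theorem cent_invol_le (H : Hyp G) {M : Subgroup G} {w w' x : G} (hw : orderOf w = 2)
    (hw' : orderOf w' = 2) (hne : w' ≠ w) (hcomm : Commute w' w) (hxw : Commute x w)
    (hx : Odd (orderOf x)) (hxM : centralizer ({x} : Set G) ≤ M) (hw'M : w' ∈ M) :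
    centralizer ({w} : Set G) ≤ M := by
  obtain ⟨T, D, i, rfl, rfl⟩ := exists_frame_pair H hw' hw hne hcomm
  intro c hc
  obtain ⟨y, hy, σ, hσ, rfl⟩ := decomp D H hc
  have hxU := mem_U H D.orderOf_z hxw hx
  have hyM : y ∈ M := hxM (mem_centralizer_singleton_iff.2 (U_comm D H hy hxU).eq)
  have hrot : ∀ j : ℤ, D.a ^ j ∈ M := fun j =>
    hxM (mem_centralizer_singleton_iff.2 (rot_comm D H j hxU).eq)
  refine mul_mem hyM ?_
  obtain ⟨j, rfl | rfl⟩ := D.cases σ hσ
  · exact hrot j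
  · have e : D.a ^ j * D.b = D.a ^ (j - i) * (D.a ^ i * D.b) := by
      rw [← mul_assoc, ← zpow_add, sub_add_cancel]
    rw [e]
    exact mul_mem (hrot _) hw'M

/-! ### The odd core of the centralizer of a subgroup of `U` -/

section Local

variable (H : Hyp G) {Y : Subgroup G} (hYU : Y ≤ U D.z) (hY : Y ≠ ⊥)

include H hYU

theorem cent_le_normalizer : centralizer ({D.z} : Set G) ≤ normalizer (Y : Set G) := by
  intro c hc
  obtain ⟨y, hy, σ, hσ, rfl⟩ := decomp D H hc
  refine mul_mem (ConjUtil.mem_normalizer_of_conj_mem y fun x hx => ?_)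
    (ConjUtil.mem_normalizer_of_conj_mem σ fun x hx => ?_)
  · rw [(U_comm D H hy (hYU hx)).eq, mul_inv_cancel_right]; exact hx
  · obtain ⟨j, rfl | rfl⟩ := D.cases σ hσ
    · rw [(rot_comm D H j (hYU hx)).eq, mul_inv_cancel_right]; exact hx
    · rw [refl_inverts D H j (hYU hx)]; exact inv_mem hx

theorem normalizer_oddPart : centralizer ({D.z} : Set G) ≤
    normalizer (oddPart (centralizer (Y : Set G)) : Set G) := by
  refine (cent_le_normalizer D H hYU).trans ?_
  refine le_trans ?_ (CfsgLib.Balance.normalizer_le_normalizer_coreP 2 _)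
  refine le_normalizer_iff.2 fun g hg x hx => mem_centralizer_iff.2 fun y hy => ?_
  have hy' : g⁻¹ * y * g ∈ Y := by
    simpa using (mem_normalizer_iff.1 (inv_mem hg) y).1 hy
  have h := mem_centralizer_iff.1 hx _ hy'
  calc y * (g * x * g⁻¹) = g * ((g⁻¹ * y * g) * x) * g⁻¹ := by group
    _ = g * (x * (g⁻¹ * y * g)) * g⁻¹ := by rw [h]
    _ = g * x * g⁻¹ * y := by group

include hY

theorem exists_ne_one : ∃ y ∈ Y, y ≠ 1 ∧ Odd (orderOf y) := by
  obtain ⟨⟨y, hy⟩, hy1⟩ := Subgroup.ne_bot_iff_exists_ne_one.1 hY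
  exact ⟨y, hy, fun e => hy1 (Subtype.ext e), odd_of_mem_U (hYU hy)⟩

theorem mem_oddPart_cent {x : G} (hx : x ∈ centralizer (Y : Set G)) (ho : Odd (orderOf x)) :
    x ∈ oddPart (centralizer (Y : Set G)) := by
  obtain ⟨y, hy, hy1, hyo⟩ := exists_ne_one D H hYU hY
  haveI : Fact (Nat.Prime 2) := ⟨Nat.prime_two⟩
  obtain ⟨W⟩ := (inferInstance : Nonempty (Sylow 2 ↥(centralizer (Y : Set G))))
  obtain ⟨l, hl⟩ := complement_of_cyclic W (isCyclic_sylow_cent H hyo hy1
    (centralizer_le (Set.singleton_subset_iff.2 hy)) W)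
  exact mem_oddPart_of_odd hl hx ho

theorem U_le_oddPart : U D.z ≤ oddPart (centralizer (Y : Set G)) := fun x hx =>
  mem_oddPart_cent D H hYU hY (mem_centralizer_iff.2 fun y hy => (U_comm D H (hYU hy) hx).eq)
    (odd_of_mem_U hx)

/-- If the odd core of `C(Y)` commutes with `z`, then `N(Y) ≤ C(z)`. -/
theorem normalizer_le_cent (hO : oddPart (centralizer (Y : Set G)) ≤ centralizer ({D.z} : Set G)) :
    normalizer (Y : Set G) ≤ centralizer ({D.z} : Set G) := by
  obtain ⟨y, hy, hy1, hyo⟩ := exists_ne_one D H hYU hY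
  have hzY : D.z ∈ centralizer (Y : Set G) :=
    mem_centralizer_iff.2 fun x hx => (commute_of_mem_U (hYU hx)).eq
  intro n hn
  have hn' : n * D.z * n⁻¹ ∈ centralizer (Y : Set G) := by
    refine mem_centralizer_iff.2 fun x hx => ?_
    have hx' : n⁻¹ * x * n ∈ Y := by simpa using (mem_normalizer_iff.1 (inv_mem hn) x).1 hx
    have h := mem_centralizer_iff.1 hzY _ hx'
    calc x * (n * D.z * n⁻¹) = n * ((n⁻¹ * x * n) * D.z) * n⁻¹ := by group
      _ = n * (D.z * (n⁻¹ * x * n)) * n⁻¹ := by rw [h]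
      _ = n * D.z * n⁻¹ * x := by group
  obtain ⟨hodd, c, hc, hcz⟩ := exists_conj_of_cent H hyo hy1
    (show orderOf D.z = 2 from D.orderOf_z)
    (show orderOf (n * D.z * n⁻¹) = 2 by rw [conj_orderOf, D.orderOf_z])
    (mem_centralizer_iff.1 hzY y hy) (mem_centralizer_iff.1 hn' y hy)
  have hr : D.z * (n * D.z * n⁻¹) ∈ oddPart (centralizer (Y : Set G)) :=
    mem_oddPart_cent D H hYU hY (mul_mem hzY hn') hodd
  have hcC : c ∈ centralizer ({D.z} : Set G) := hO (zpowers_le.2 hr hc)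
  rw [(mem_centralizer_singleton_iff.1 hcC : c * D.z = D.z * c), mul_inv_cancel_right] at hcz
  rw [mem_centralizer_singleton_iff]
  exact (eq_mul_inv_iff_mul_eq.1 hcz).symm

end Local

/-! ### Invariant Sylow subgroups -/

theorem isSolvable_four (i : ℤ) : Group.IsSolvable (D.four i) := by
  haveI : Fact (Nat.Prime 2) := ⟨Nat.prime_two⟩
  haveI : Group.IsNilpotent (D.four i) := (T.isPGroup'.to_le (D.four_le i)).isNilpotent
  infer_instance

theorem four_coprime (i : ℤ) {K : Subgroup G} (hK : Odd (Nat.card K)) :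
    (Nat.card (D.four i)).Coprime (Nat.card K) := by
  rw [(D.four_isKleinFour i).card_four, show (4 : ℕ) = 2 ^ 2 by norm_num]
  exact (Nat.coprime_two_left.2 hK).pow_left 2

/-- The invariant Sylow subgroup of an odd group normalized by a four-group contains all invariant
`q`-subgroups. -/
theorem exists_inv_sylow (H : Hyp G) (i : ℤ) {K : Subgroup G} (hK : Odd (Nat.card K))
    (hVK : D.four i ≤ normalizer (K : Set G)) (q : ℕ) [Fact q.Prime] :
    ∃ R : Sylow q K, D.four i ≤ normalizer (((R : Subgroup K).map K.subtype : Subgroup G) : Set G) ∧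
      ∀ Q : Subgroup G, Q ≤ K → IsPGroup q Q → D.four i ≤ normalizer (Q : Set G) →
        Q ≤ (R : Subgroup K).map K.subtype := by
  have hs : Group.IsSolvable (D.four i) ∨ Group.IsSolvable K := Or.inl (isSolvable_four D i)
  obtain ⟨R, hR⟩ := CfsgLib.Solvable.exists_invariant_sylow hVK (four_coprime D i hK) hs q
  refine ⟨R, hR, fun Q hQK hQ hVQ => ?_⟩
  obtain ⟨P, hQP, hP⟩ :=
    CfsgLib.Solvable.exists_invariant_sylow_ge hVK (four_coprime D i hK) hs q hQK hQ hVQ
  obtain ⟨c, hc, hcP⟩ :=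
    CfsgLib.Solvable.exists_invariant_sylow_conj hVK (four_coprime D i hK) hs P R hP hR
  have h1 : (c : G) = 1 := H.fpf _ (D.four_isKleinFour i) c hc (odd_orderOf_of_mem hK c.2)
  have h1' : c = 1 := Subtype.ext h1
  rw [h1', map_one, one_smul] at hcP
  exact hQP.trans_eq (by rw [hcP])

end CfsgLib.GW.FpfFour
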