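import Cfsg.Agent.Lib.GW.KleinMoved
import Cfsg.Agent.Lib.PLocal.Constrained
import Cfsg.Agent.Lib.Case.CharTwo

/-!
# Groups with dihedral Sylow 2-subgroups and fixed-point-free four-groups: climbing to a Sylow
`q`-subgroup

A fusing `q`-local subgroup of greatest `q`-part contains a Sylow `q`-subgroup of `G`, and then
`N(ZJ(P))` is fusing for that Sylow subgroup `P`.
-/

set_option autoImplicit false
set_option linter.style.haveILetI false

namespace CfsgLib.GW.FpfFour

open Subgroup CfsgLib.TwoFusion CfsgLib.TwoFusion.DihedralFusion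

universe u

variable {G : Type u} [Group G] [Finite G]

/-- `ZJ` commutes with a homomorphism that is injective on the subgroup. -/
theorem zj_map_on {X : Type*} [Group X] {Y : Type*} [Group Y] (f : X →* Y) (Q : Subgroup X)
    (hinj : Function.Injective (f.comp Q.subtype)) :
    (CfsgLib.ZJCenter.zj 0 Q).map f = CfsgLib.ZJCenter.zj 0 (Q.map f) := by
  have e1 : (⊤ : Subgroup Q).map Q.subtype = Q := by
    rw [← MonoidHom.range_eq_map, range_subtype]
  have h1 := CfsgLib.ZJCenter.zj_map Q.subtype_injective 0 (⊤ : Subgroup Q)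
  have h2 := CfsgLib.ZJCenter.zj_map hinj 0 (⊤ : Subgroup Q)
  rw [e1] at h1
  rw [← map_map, h1, ← map_map, e1] at h2
  exact h2

theorem exists_sylow_fused (H : Hyp G) {q : ℕ} [hq : Fact q.Prime] (hq2 : q ≠ 2) {W0 : Subgroup G}
    (hW0p : IsPGroup q W0) (hW0 : W0 ≠ ⊥) (hW0F : Fused (normalizer (W0 : Set G))) :
    ∃ P : Sylow q G, (P : Subgroup G) ≠ ⊥ ∧
      Fused (normalizer (CfsgLib.ZJCenter.zj 0 (P : Subgroup G) : Set G)) := by
  haveI : Fact (Nat.Prime 2) := ⟨Nat.prime_two⟩
  obtain ⟨W, ⟨hWp, hWne, hWF⟩, hmax⟩ := Set.exists_max_image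
    {W : Subgroup G | IsPGroup q W ∧ W ≠ ⊥ ∧ Fused (normalizer (W : Set G))}
    (fun W => (Nat.card (normalizer (W : Set G))).factorization q) (Set.toFinite _)
    ⟨W0, hW0p, hW0, hW0F⟩
  have hCodd : Odd (Nat.card (centralizer (W : Set G))) := odd_cent H hWne (odd_of_pgroup hq2 hWp) hWF
  obtain ⟨T, D, hTN, i, g, hg, hge⟩ := hWF
  set N := normalizer (W : Set G) with hNdef
  set W' : Subgroup N := W.subgroupOf N with hW'
  haveI hW'n : W'.Normal := normal_subgroupOf_of_le_normalizer le_rfl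
  have hW'p : IsPGroup q W' := hWp.of_equiv (subgroupOfEquivOfLe le_normalizer).symm
  have hC' : ∀ c : N, c ∈ centralizer (W' : Set N) → (c : G) ∈ centralizer (W : Set G) := fun c hc =>
    mem_centralizer_iff.2 fun y hy =>
      congrArg Subtype.val (mem_centralizer_iff.1 hc ⟨y, le_normalizer hy⟩ hy)
  have hC'odd : Odd (Nat.card (centralizer (W' : Set N))) := by
    refine hCodd.of_dvd_nat ?_
    refine (card_map_of_injective (f := N.subtype) N.subtype_injective).symm.dvd.trans
      (card_dvd_of_le ?_)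
    rintro _ ⟨c, hc, rfl⟩
    exact hC' c hc
  -- the quotient by the `q'`-core
  set O' := Cfsg.pPrimeCore q N with hO'
  haveI hO'n : O'.Normal := CfsgLib.Solvable.pPrimeCore_normal q N
  set f := QuotientGroup.mk' O' with hf
  have hfs : Function.Surjective f := QuotientGroup.mk'_surjective O'
  have hker : f.ker = O' := QuotientGroup.ker_mk' O'
  have hO'cop : (Nat.card O').Coprime q := CfsgLib.Solvable.pPrimeCore_card_coprime q N
  have hkercop : (Nat.card f.ker).Coprime q := by rw [hker]; exact hO'cop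
  have hO'C : O' ≤ centralizer (W' : Set N) := by
    refine commutator_eq_bot_iff_le_centralizer.1 (le_bot_iff.1 ((commutator_le_inf O' W').trans ?_))
    rw [inf_comm, CfsgLib.PLoc.disjoint_of_pgroup_coprime hW'p hO'cop]
  have hbot : Cfsg.pPrimeCore q (N ⧸ O') = ⊥ := CfsgLib.Solvable.pPrimeCore_quotient_eq_bot O' rfl
  -- the quotient is constrained
  have hcon : centralizer (Cfsg.pCore q (N ⧸ O') : Set (N ⧸ O')) ≤ Cfsg.pCore q (N ⧸ O') := by
    haveI := CfsgLib.Solvable.pCore_normal q (N ⧸ O')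
    set M := centralizer (Cfsg.pCore q (N ⧸ O') : Set (N ⧸ O')) with hM
    haveI : M.Normal := normal_centralizer
    have hMle : M ≤ (centralizer (W' : Set N)).map f := by
      rw [← CfsgLib.PLoc.centralizer_map_eq hfs hkercop hW'p]
      exact centralizer_le (CfsgLib.Solvable.le_pCore (hW'n.map f hfs) (hW'p.map f))
    have hModd : Odd (Nat.card M) :=
      hC'odd.of_dvd_nat ((card_dvd_of_le hMle).trans (card_map_dvd _ _))
    haveI : Group.IsSolvable M := CfsgLib.FT.solvable_of_odd hModd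
    have hMO : Cfsg.pPrimeCore q M = ⊥ := by
      have h := CfsgLib.Solvable.map_subtype_pPrimeCore_eq (p := q) M
      rw [hbot, bot_inf_eq] at h
      exact (map_eq_bot_iff_of_injective _ M.subtype_injective).1 h
    have hMc := CfsgLib.Case.centralizer_pCore_le_of_solvable hMO
    intro x hx
    have hx' : (⟨x, hx⟩ : M) ∈ Cfsg.pCore q M := hMc (mem_centralizer_iff.2 fun y hy => by
      have hy' : (y : N ⧸ O') ∈ Cfsg.pCore q (N ⧸ O') ⊓ M := by
        rw [← CfsgLib.Solvable.map_subtype_pCore_eq (p := q) M]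
        exact mem_map_of_mem _ hy
      exact Subtype.ext (mem_centralizer_iff.1 hx (y : N ⧸ O') hy'.1))
    have h := mem_map_of_mem M.subtype hx'
    rw [CfsgLib.Solvable.map_subtype_pCore_eq (p := q) M] at h
    exact h.1
  have hst : CfsgLib.LocEven.ZJClosed.NStable q (N ⧸ O') :=
    CfsgLib.LocEven.ZJClosed.nStable_of_isNormalizerPStable
      ((CfsgLib.PLoc.isNormalizerPStable_or_qd hq2 (N ⧸ O')).resolve_right fun h =>
        not_hasQdSection D q hq2 (CfsgLib.PLoc.hasQdSection_of_subgroup N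
          (CfsgLib.PLoc.hasQdSection_of_surjective hfs h)))
  obtain ⟨Sq⟩ := (inferInstance : Nonempty (Sylow q N))
  have hinj : Function.Injective (f.comp (Sq : Subgroup N).subtype) := by
    rw [injective_iff_map_eq_one]
    intro s hs
    have h1 : (s : N) ∈ O' := (QuotientGroup.eq_one_iff _).1 hs
    have h2 := CfsgLib.PLoc.disjoint_of_pgroup_coprime Sq.2 hO'cop
    exact Subtype.ext (mem_bot.1 (h2 ▸ mem_inf.2 ⟨s.2, h1⟩))
  set Y := CfsgLib.ZJCenter.zj 0 (Sq : Subgroup N) with hY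
  have hYn : (Y.map f).Normal := by
    rw [hY, zj_map_on f _ hinj, ← Sq.coe_mapSurjective hfs]
    exact CfsgLib.LocEven.ZJClosed.zj_normal hq2 hcon hst (Or.inl rfl) _
      (CfsgLib.ZJCenter.stronglyClosedIn_self _)
  have hfrat : ∀ n : N, ∃ o ∈ O', ∃ m ∈ normalizer (Y : Set N), n = o * m := by
    intro n
    have hn : f n ∈ normalizer ((Y.map f : Subgroup (N ⧸ O')) : Set (N ⧸ O')) := by
      haveI := hYn
      rw [normalizer_eq_top]
      exact mem_top _
    rw [CfsgLib.PLoc.normalizer_map_eq hfs hkercop (Sq.2.to_le (CfsgLib.ZJCenter.zj_le 0 _))] at hn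
    obtain ⟨m, hm, hme⟩ := hn
    refine ⟨n * m⁻¹, ?_, m, hm, by group⟩
    rw [← hker, MonoidHom.mem_ker, map_mul, map_inv, hme, mul_inv_cancel]
  -- back to `G`
  set Q := (Sq : Subgroup N).map N.subtype with hQ
  have hQp : IsPGroup q Q := Sq.2.map _
  set YG := CfsgLib.ZJCenter.zj 0 Q with hYG
  have hYGeq : Y.map N.subtype = YG :=
    zj_map_on N.subtype _ (N.subtype_injective.comp (Sq : Subgroup N).subtype_injective)
  set L := normalizer (YG : Set G) ⊓ N with hL
  have hmL : ∀ m ∈ normalizer (Y : Set N), (m : G) ∈ L := fun m hm =>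
    ⟨hYGeq ▸ le_normalizer_map N.subtype ⟨m, hm, rfl⟩, m.2⟩
  have hO'odd : Odd (Nat.card O') := hC'odd.of_dvd_nat (card_dvd_of_le hO'C)
  have hLi : Odd (L.relIndex N) := by
    have h1 : Odd (normalizer (Y : Set N)).index := by
      have htop : O' ⊔ normalizer (Y : Set N) = ⊤ := eq_top_iff.2 fun n _ => by
        obtain ⟨o, ho, m, hm, rfl⟩ := hfrat n
        exact mul_mem_sup ho hm
      have h3 : O'.relIndex (normalizer (Y : Set N)) = O'.index := by
        rw [← relIndex_sup_right, sup_comm, htop, relIndex_top_right]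
      refine hO'odd.of_dvd_nat (Dvd.intro_left (Nat.card (O' ⊓ normalizer (Y : Set N) : Subgroup N)) ?_)
      have h4 : Nat.card (O' ⊓ normalizer (Y : Set N) : Subgroup N) *
          O'.relIndex (normalizer (Y : Set N)) = Nat.card (normalizer (Y : Set N)) :=
        CfsgLib.Solvable.card_inf_mul_relIndex _ _
      have h5 := card_mul_index (normalizer (Y : Set N))
      rw [← h4, h3, ← card_mul_index O', mul_right_comm] at h5
      exact Nat.eq_of_mul_eq_mul_right (Nat.pos_of_ne_zero O'.index_ne_zero_of_finite) h5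
    refine h1.of_dvd_nat ?_
    rw [relIndex]
    exact index_dvd_of_le fun m hm => hmL m hm
  obtain ⟨R, hRp, hRL, -, hRi, -⟩ := FusionTools.exists_sylow_in L (⊥ : Subgroup G)
    IsPGroup.of_bot bot_le
  have hLN : L ≤ N := inf_le_right
  obtain ⟨h, hh, hhT⟩ := FusionTools.exists_conj_le N R (T : Subgroup G) hRp (hRL.trans hLN)
    (by rw [← relIndex_mul_relIndex R L N hRL hLN]; exact hRi.mul hLi) T.isPGroup' hTN
  let T1 : Sylow 2 G := T.mapSurjective (f := (MulAut.conj h).toMonoidHom) (MulAut.conj h).surjective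
  have hT1 : (T1 : Subgroup G) = (T : Subgroup G).map (MulAut.conj h).toMonoidHom := rfl
  let D1 : DihGens (T1 : Subgroup G) := mapGens D (MulAut.conj h).injective hT1
  have hT1L : (T1 : Subgroup G) ≤ L := by
    rw [hT1]
    rintro _ ⟨x, hx, rfl⟩
    exact hRL (hhT x hx)
  have hz1 : D1.z = h * D.z * h⁻¹ := (map_zpow (MulAut.conj h).toMonoidHom D.a _).symm
  have hr1 : D1.a ^ i * D1.b = h * (D.a ^ i * D.b) * h⁻¹ := by
    show (MulAut.conj h).toMonoidHom D.a ^ i * (MulAut.conj h).toMonoidHom D.b = _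
    rw [← map_zpow, ← map_mul]
    rfl
  have hg1 : h * g * h⁻¹ ∈ N := mul_mem (mul_mem hh hg) (inv_mem hh)
  obtain ⟨o, ho, m, hm, hom⟩ := hfrat ⟨h * g * h⁻¹, hg1⟩
  have hom' : h * g * h⁻¹ = (o : G) * m := congrArg Subtype.val hom
  have hconj : (o : G) * ((m : G) * (D1.a ^ i * D1.b) * (m : G)⁻¹) * (o : G)⁻¹ = D1.z := by
    rw [hz1, hr1, ← hge]
    calc (o : G) * ((m : G) * (h * (D.a ^ i * D.b) * h⁻¹) * (m : G)⁻¹) * (o : G)⁻¹
        = ((o : G) * m) * (h * (D.a ^ i * D.b) * h⁻¹) * ((o : G) * m)⁻¹ := by group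
      _ = _ := by rw [← hom']; group
  set z2 := (m : G) * (D1.a ^ i * D1.b) * (m : G)⁻¹ with hz2def
  have hz2L : z2 ∈ L := mul_mem (mul_mem (hmL m hm) (hT1L (D1.refl_mem i))) (inv_mem (hmL m hm))
  have hz2o : orderOf z2 = 2 := by rw [hz2def, conj_orderOf, D1.orderOf_refl]
  set O'G := O'.map N.subtype with hO'G
  have hprod : z2 * D1.z ∈ O'G := by
    have hz2N : z2 ∈ N := hLN hz2L
    refine ⟨(⟨z2, hz2N⟩ * o * (⟨z2, hz2N⟩ : N)⁻¹) * (⟨z2, hz2N⟩ * ⟨z2, hz2N⟩) * o⁻¹, ?_, ?_⟩
    · rw [show (⟨z2, hz2N⟩ : N) * ⟨z2, hz2N⟩ = 1 from Subtype.ext (mul_self_of_orderOf_two hz2o),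
        mul_one]
      exact mul_mem (hO'n.conj_mem o ho _) (inv_mem ho)
    · rw [← hconj]
      simp only [Subgroup.coe_subtype, Subgroup.coe_mul, Subgroup.coe_inv]
      group
  have hprododd : Odd (orderOf (z2 * D1.z)) := by
    refine odd_orderOf_of_mem ?_ hprod
    rw [hO'G, card_map_of_injective N.subtype_injective]
    exact hO'odd
  rcases invol_pair hz2o D1.orderOf_z with ⟨c, hc, hc2, -⟩ | ⟨-, c, hc, hcz⟩
  · exact absurd (hprododd.of_dvd_nat (orderOf_dvd_of_mem_zpowers hc)) (not_odd_orderOf_two hc2)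
  have hYF : Fused (normalizer (YG : Set G)) := by
    refine Fused.mono ⟨T1, D1, hT1L, i, c * (m : G),
      mul_mem (zpowers_le.2 (mul_mem hz2L (hT1L D1.z_mem_S)) hc) (hmL m hm), ?_⟩ inf_le_left
    rw [← hcz, hz2def]
    group
  -- `Q` is a Sylow subgroup of `G`
  have hQne : Q ≠ ⊥ := by
    intro hbot'
    have hW'S : W' ≤ (Sq : Subgroup N) := hW'p.le_sylow_of_normal Sq
    refine hWne (eq_bot_iff.2 fun x hx => ?_)
    rw [← hbot']
    exact ⟨⟨x, le_normalizer hx⟩, hW'S hx, rfl⟩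
  set n := (Nat.card N).factorization q with hn
  have hQcard : Nat.card Q = q ^ n := by rw [hQ, card_subtype, Sq.card_eq_multiplicity]
  have hnd : ¬ q ^ (n + 1) ∣ Nat.card G := by
    intro hd
    have h1 := (Sylow.prime_pow_dvd_card_normalizer hd hQcard).trans
      (card_dvd_of_le (CfsgLib.ZJCenter.normalizer_le_normalizer_zj 0 Q))
    have h2 := (hq.out.pow_dvd_iff_le_factorization Nat.card_pos.ne').1 h1
    have h3 : (Nat.card (normalizer (YG : Set G))).factorization q ≤ (Nat.card N).factorization q :=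
      hmax YG ⟨hQp.to_le (CfsgLib.ZJCenter.zj_le 0 Q),
        CfsgLib.ZJCenter.zj_ne_bot (Or.inl rfl) hQp hQne, hYF⟩
    rw [← hn] at h3
    rw [← hYG] at h2
    omega
  have hfac : (Nat.card G).factorization q = n := by
    apply le_antisymm
    · by_contra hlt
      exact hnd ((pow_dvd_pow q (by omega)).trans (Nat.ordProj_dvd (Nat.card G) q))
    · exact (hq.out.pow_dvd_iff_le_factorization Nat.card_pos.ne').1
        (hQcard ▸ card_subgroup_dvd_card Q)
  refine ⟨Sylow.ofCard Q (by rw [hQcard, hfac]), ?_, ?_⟩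
  · rw [Sylow.coe_ofCard]; exact hQne
  · rw [Sylow.coe_ofCard]; exact hYF

end CfsgLib.GW.FpfFour
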