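import Cfsg.Agent.Lib.GW.KleinClimb
import Cfsg.Agent.Lib.Signalizer.Basic

/-!
# Groups with dihedral Sylow 2-subgroups and fixed-point-free four-groups: the elementary subgroup

`E = Ω₁(ZJ(P))` for a Sylow `q`-subgroup `P` with fusing `N(ZJ(P))`: it is weakly closed, its
centralizer has odd order and it meets the centralizer of every involution of a suitable Sylow
`2`-subgroup of its normalizer.
-/

set_option autoImplicit false
set_option linter.style.haveILetI false

namespace CfsgLib.GW.FpfFour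

open Subgroup CfsgLib.TwoFusion CfsgLib.TwoFusion.DihedralFusion

universe u

variable {G : Type u} [Group G] [Finite G] {q : ℕ} [hq : Fact q.Prime]

/-- `Ω₁(ZJ(P))`. -/
def zjOmega (q : ℕ) (P : Subgroup G) : Subgroup G := Cfsg.omegaOne q (CfsgLib.ZJCenter.zj 0 P)

theorem zjOmega_le_zj (P : Subgroup G) : zjOmega q P ≤ CfsgLib.ZJCenter.zj 0 P :=
  (closure_le _).2 fun _ hx => hx.1

theorem zjOmega_le (P : Subgroup G) : zjOmega q P ≤ P :=
  (zjOmega_le_zj P).trans (CfsgLib.ZJCenter.zj_le 0 P)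

theorem zjOmega_elementary (P : Subgroup G) : Cfsg.IsElementaryAbelian q (zjOmega q P) := by
  set Z := CfsgLib.ZJCenter.zj 0 P with hZ
  have hcomm : ∀ x ∈ Z, ∀ y ∈ Z, Commute x y := fun x hx y hy => hy.2 x hx.1
  refine ⟨IsMulCommutative.of_setLike_mul_comm fun x hx y hy =>
    (hcomm x (zjOmega_le_zj P hx) y (zjOmega_le_zj P hy)).eq, fun a ha => ?_⟩
  induction ha using closure_induction with
  | mem x hx => exact hx.2
  | one => exact one_pow q
  | mul x y hx hy h1 h2 =>
    rw [(hcomm x (zjOmega_le_zj P hx) y (zjOmega_le_zj P hy)).mul_pow, h1, h2, one_mul]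
  | inv x hx h1 => rw [inv_pow, h1, inv_one]

theorem zjOmega_normalizer (P : Subgroup G) :
    normalizer (CfsgLib.ZJCenter.zj 0 P : Set G) ≤ normalizer (zjOmega q P : Set G) :=
  CfsgLib.LocEven.ZJClosed.normalizer_le_normalizer_omegaOne _

theorem zjOmega_ne_bot {P : Subgroup G} (hP : IsPGroup q P) (hne : P ≠ ⊥) : zjOmega q P ≠ ⊥ := by
  set Z := CfsgLib.ZJCenter.zj 0 P with hZ
  have hZp : IsPGroup q Z := hP.to_le (CfsgLib.ZJCenter.zj_le 0 P)
  obtain ⟨n, hn⟩ := IsPGroup.iff_card.1 hZp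
  have hd : q ∣ Nat.card Z := by
    rw [hn]
    refine dvd_pow_self q fun h0 => CfsgLib.ZJCenter.zj_ne_bot (Or.inl rfl) hP hne ?_
    exact eq_bot_of_card_eq Z (by rw [hn, h0, pow_zero])
  obtain ⟨⟨x, hx⟩, hxo⟩ := exists_prime_orderOf_dvd_card' q hd
  rw [Subgroup.orderOf_mk] at hxo
  intro h
  have hm : x ∈ zjOmega q P := subset_closure ⟨hx, hxo ▸ pow_orderOf_eq_one x⟩
  rw [h, mem_bot] at hm
  rw [hm, orderOf_one] at hxo
  exact hq.out.ne_one hxo.symm

/-- `E` is weakly closed in `P`. -/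
theorem weakly_closed {T : Sylow 2 G} (D : DihGens (T : Subgroup G)) (hq2 : q ≠ 2) (P : Sylow q G)
    {g : G} (hg : ∀ e ∈ zjOmega q (P : Subgroup G), g * e * g⁻¹ ∈ (P : Subgroup G)) :
    g ∈ normalizer (zjOmega q (P : Subgroup G) : Set G) := by
  obtain ⟨x, hx, hxa⟩ := zj_fusion D hq2 P
    (A := ((zjOmega q (P : Subgroup G) : Subgroup G) : Set G)) (zjOmega_le (P : Subgroup G)) hg
  refine ConjUtil.mem_normalizer_of_conj_mem g fun e he => ?_
  rw [hxa e he]
  exact (mem_normalizer_iff.1 (zjOmega_normalizer (P : Subgroup G) hx) e).1 he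

/-- A `q`-group containing `E` normalizes it, and so does its normalizer. -/
theorem le_normalizer_zjOmega {T : Sylow 2 G} (D : DihGens (T : Subgroup G)) (hq2 : q ≠ 2)
    (P : Sylow q G) {R : Subgroup G} (hR : IsPGroup q R) (hER : zjOmega q (P : Subgroup G) ≤ R) :
    R ≤ normalizer (zjOmega q (P : Subgroup G) : Set G) ∧
      normalizer (R : Set G) ≤ normalizer (zjOmega q (P : Subgroup G) : Set G) := by
  obtain ⟨g, hg⟩ := ConjUtil.exists_conjMap_le P hR
  have hgE : g ∈ normalizer (zjOmega q (P : Subgroup G) : Set G) :=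
    weakly_closed D hq2 P fun e he => hg ⟨e, hER he, rfl⟩
  have hmain : normalizer (R : Set G) ≤ normalizer (zjOmega q (P : Subgroup G) : Set G) := by
    intro n hn
    have h : g * n ∈ normalizer (zjOmega q (P : Subgroup G) : Set G) :=
      weakly_closed D hq2 P fun e he => hg ⟨n * e * n⁻¹, (mem_normalizer_iff.1 hn e).1 (hER he), by
        show g * (n * e * n⁻¹) * g⁻¹ = g * n * e * (g * n)⁻¹
        group⟩
    simpa using mul_mem (inv_mem hgE) h
  exact ⟨le_normalizer.trans hmain, hmain⟩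

omit hq in
/-- An involution fixing nothing in an abelian subgroup of odd order inverts it. -/
theorem inverts_of_no_fix {E : Subgroup G} {v : G} (hv : orderOf v = 2)
    (hvE : v ∈ normalizer (E : Set G)) (hfix : E ⊓ centralizer ({v} : Set G) = ⊥) {e : G}
    (he : e ∈ E) : v * e * v⁻¹ = e⁻¹ := by
  let φ : E →* E :=
    MonoidHom.mk' (fun x => ⟨v * x * v⁻¹, (mem_normalizer_iff.1 hvE x).1 x.2⟩)
      fun a b => Subtype.ext (by
        show v * ((a : G) * b) * v⁻¹ = v * a * v⁻¹ * (v * b * v⁻¹)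
        group)
  have hf : MonoidHom.FixedPointFree φ := fun x hx => by
    refine Subtype.ext (mem_bot.1 (hfix ▸ mem_inf.2 ⟨x.2, ?_⟩))
    have h : v * (x : G) * v⁻¹ = x := congrArg Subtype.val hx
    exact mem_centralizer_singleton_iff.2 (mul_inv_eq_iff_eq_mul.1 h).symm
  have hinv : Function.Involutive φ := fun x => Subtype.ext (by
    show v * (v * (x : G) * v⁻¹) * v⁻¹ = x
    rw [show v * (v * (x : G) * v⁻¹) * v⁻¹ = (v * v) * x * (v * v)⁻¹ by group,
      mul_self_of_orderOf_two hv]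
    simp)
  exact congrArg Subtype.val (congrFun (hf.coe_eq_inv_of_involutive hinv) ⟨e, he⟩)

omit hq in
/-- Two commuting distinct involutions cannot both invert `E`, whose centralizer is odd. -/
theorem not_both_invert {E : Subgroup G} (hC : Odd (Nat.card (centralizer (E : Set G)))) {v w : G}
    (hv : orderOf v = 2) (hw : orderOf w = 2) (hne : v ≠ w) (hc : Commute v w)
    (hvi : ∀ e ∈ E, v * e * v⁻¹ = e⁻¹) (hwi : ∀ e ∈ E, w * e * w⁻¹ = e⁻¹) : False := by
  have hm : v * w ∈ centralizer (E : Set G) := mem_centralizer_iff.2 fun e he => by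
    have h : v * w * e * (v * w)⁻¹ = e := by
      calc v * w * e * (v * w)⁻¹ = v * (w * e * w⁻¹) * v⁻¹ := by group
        _ = e := by rw [hwi e he, hvi _ (inv_mem he), inv_inv]
    exact (mul_inv_eq_iff_eq_mul.1 h).symm
  have hsq : (v * w) * (v * w) = 1 := by
    rw [hc.symm.mul_mul_mul_comm, mul_self_of_orderOf_two hv, mul_self_of_orderOf_two hw, one_mul]
  refine hne ?_
  have h1 := eq_one_of_sq_of_odd (odd_orderOf_of_mem hC hm) hsq
  rw [eq_inv_of_mul_eq_one_left h1, inv_eq_of_mul_eq_one_right (mul_self_of_orderOf_two hw)]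

omit hq in
/-- The pieces of conjugate involutions are conjugate. -/
theorem piece_ne_bot_conj {E : Subgroup G} {v w h : G} (hh : h ∈ normalizer (E : Set G))
    (e : h * v * h⁻¹ = w) (hv : E ⊓ centralizer ({v} : Set G) ≠ ⊥) :
    E ⊓ centralizer ({w} : Set G) ≠ ⊥ := by
  obtain ⟨⟨x, hx⟩, hx1⟩ := Subgroup.ne_bot_iff_exists_ne_one.1 hv
  intro hbot
  have hm : h * x * h⁻¹ ∈ E ⊓ centralizer ({w} : Set G) := by
    refine ⟨(mem_normalizer_iff.1 hh x).1 hx.1, mem_centralizer_singleton_iff.2 ?_⟩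
    rw [← e]
    calc h * x * h⁻¹ * (h * v * h⁻¹) = h * (x * v) * h⁻¹ := by group
      _ = h * (v * x) * h⁻¹ := by rw [mem_centralizer_singleton_iff.1 hx.2]
      _ = h * v * h⁻¹ * (h * x * h⁻¹) := by group
  rw [hbot, mem_bot] at hm
  exact hx1 (Subtype.ext (conj_eq_one_iff.1 hm))

omit hq in
theorem card_mul_card_le_sup {A B : Subgroup G} (h : A ⊓ B = ⊥) :
    Nat.card A * Nat.card B ≤ Nat.card (A ⊔ B : Subgroup G) := by
  rw [← Nat.card_prod]
  refine Nat.card_le_card_of_injective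
    (fun p : A × B => (⟨(p.1 : G) * p.2, mul_mem_sup p.1.2 p.2.2⟩ : (A ⊔ B : Subgroup G))) ?_
  rintro ⟨a, b⟩ ⟨a', b'⟩ he
  have he' : (a : G) * b = a' * b' := congrArg Subtype.val he
  have h1 : (a' : G)⁻¹ * a = b' * (b : G)⁻¹ := by
    rw [eq_mul_inv_iff_mul_eq, mul_assoc, he', inv_mul_cancel_left]
  have h2 : (a' : G)⁻¹ * a ∈ A ⊓ B :=
    ⟨A.mul_mem (A.inv_mem a'.2) a.2, h1 ▸ B.mul_mem b'.2 (B.inv_mem b.2)⟩
  rw [h, mem_bot, inv_mul_eq_one] at h2
  have ha : a' = a := Subtype.ext h2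
  subst ha
  have hb : b = b' := Subtype.ext (mul_left_cancel he')
  rw [hb]

omit hq in
theorem prime_le_card {p : ℕ} [Fact p.Prime] {A : Subgroup G} (hA : IsPGroup p A) (h : A ≠ ⊥) :
    p ≤ Nat.card A := by
  obtain ⟨n, hn⟩ := IsPGroup.iff_card.1 hA
  rcases n with _ | n
  · exact absurd (eq_bot_of_card_eq A (by rw [hn, pow_zero])) h
  · exact hn ▸ Nat.le_self_pow n.succ_ne_zero p

omit [Finite G] hq in
theorem conj_symm {v w h : G} (e : h * v * h⁻¹ = w) : h⁻¹ * w * h⁻¹⁻¹ = v := by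
  subst e; group

/-- The configuration of `E`: it has rank at least three and meets the centralizers of all the
involutions of a Sylow `2`-subgroup of its normalizer. -/
theorem pieces (H : Hyp G) (hq2 : q ≠ 2) (P : Sylow q G) (hP : (P : Subgroup G) ≠ ⊥)
    (hF : Fused (normalizer (CfsgLib.ZJCenter.zj 0 (P : Subgroup G) : Set G))) :
    q ^ 3 ≤ Nat.card (zjOmega q (P : Subgroup G)) ∧
    Odd (Nat.card (centralizer (zjOmega q (P : Subgroup G) : Set G))) ∧
    ∃ T : Sylow 2 G, Nonempty (DihGens (T : Subgroup G)) ∧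
      (T : Subgroup G) ≤ normalizer (zjOmega q (P : Subgroup G) : Set G) ∧
      ∀ t ∈ (T : Subgroup G), orderOf t = 2 →
        zjOmega q (P : Subgroup G) ⊓ centralizer ({t} : Set G) ≠ ⊥ := by
  set E := zjOmega q (P : Subgroup G) with hE
  have hEp : IsPGroup q E := P.2.to_le (zjOmega_le _)
  have hEne : E ≠ ⊥ := zjOmega_ne_bot P.2 hP
  have hFE : Fused (normalizer (E : Set G)) := hF.mono (zjOmega_normalizer _)
  have hEodd := odd_of_pgroup hq2 hEp
  have hCodd := odd_cent H hEne hEodd hFE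
  obtain ⟨T, D, hTE, i, h, hh, he⟩ := hFE
  have inv_of : ∀ v ∈ (T : Subgroup G), orderOf v = 2 → E ⊓ centralizer ({v} : Set G) = ⊥ →
      ∀ e ∈ E, v * e * v⁻¹ = e⁻¹ := fun v hv hv2 hf _ he' => inverts_of_no_fix hv2 (hTE hv) hf he'
  set r := D.a ^ i * D.b with hr
  have hzr : Commute D.z r := D.z_comm (D.refl_mem i)
  have hz : E ⊓ centralizer ({D.z} : Set G) ≠ ⊥ := by
    intro hbot
    have hrbot : E ⊓ centralizer ({r} : Set G) = ⊥ := by
      by_contra hne
      exact piece_ne_bot_conj hh he hne hbot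
    exact not_both_invert hCodd D.orderOf_z (D.orderOf_refl i) (D.z_ne_refl i) hzr
      (inv_of _ D.z_mem_S D.orderOf_z hbot) (inv_of _ (D.refl_mem i) (D.orderOf_refl i) hrbot)
  have hrfix : E ⊓ centralizer ({r} : Set G) ≠ ⊥ :=
    piece_ne_bot_conj ((normalizer (E : Set G)).inv_mem hh) (conj_symm he) hz
  have hrefl : ∀ j : ℤ, E ⊓ centralizer ({D.a ^ j * D.b} : Set G) ≠ ⊥ := by
    intro j
    rcases Nat.eq_zero_or_pos D.k with hk | hk
    · have hj : D.a ^ j * D.b ∈ D.four i := eq_four_of_k_zero D hk i ▸ D.refl_mem j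
      rcases D.mem_four.1 hj with h1 | h1 | h1 | h1
      · exact absurd h1 (D.refl_ne_one j)
      · exact absurd h1 (D.z_ne_refl j).symm
      · rw [h1]; exact hrfix
      · obtain ⟨h', hh', he'⟩ := third_conj D hk hTE hh he
        rw [h1]
        exact piece_ne_bot_conj ((normalizer (E : Set G)).inv_mem hh') (conj_symm he') hz
    · intro hbot
      have hqE : D.q ∈ normalizer (E : Set G) := hTE ((T : Subgroup G).zpow_mem D.ha _)
      have hbot' : E ⊓ centralizer ({D.z * (D.a ^ j * D.b)} : Set G) = ⊥ := by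
        by_contra hne
        refine piece_ne_bot_conj ((normalizer (E : Set G)).inv_mem hqE) ?_ hne hbot
        rw [← isConj_z_mul D j hk]; group
      refine not_both_invert hCodd ?_ (D.orderOf_refl j) ?_ ?_
        (inv_of _ ((T : Subgroup G).mul_mem D.z_mem_S (D.refl_mem j)) ?_ hbot')
        (inv_of _ (D.refl_mem j) (D.orderOf_refl j) hbot)
      · rw [z_mul_refl, D.orderOf_refl]
      · exact fun e => D.z_ne_one (mul_eq_right.1 e)
      · exact (D.z_comm (D.refl_mem j)).mul_left (Commute.refl _)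
      · rw [z_mul_refl, D.orderOf_refl]
  refine ⟨?_, hCodd, T, ⟨D⟩, hTE, fun t ht ht2 => ?_⟩
  · set A := E ⊓ centralizer ({D.z} : Set G) with hA
    set B := E ⊓ centralizer ({r} : Set G) with hB
    set C := E ⊓ centralizer ({D.z * r} : Set G) with hC
    have hCne : C ≠ ⊥ := by rw [hC, hr, z_mul_refl]; exact hrefl _
    have hcomm : ∀ x ∈ E, ∀ y ∈ E, Commute x y := fun x hx y hy =>
      CfsgLib.Signalizer.elementary_commute (zjOmega_elementary _) hx hy
    have hfix : ∀ x ∈ E, Commute x D.z → Commute x r → x = 1 := fun x hx h1 h2 =>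
      eq_one_of_comm H (D.orderOf_refl i) D.orderOf_z (D.z_ne_refl i).symm hzr.symm h2 h1
        (odd_orderOf_of_mem hEodd hx)
    have hAB : A ⊓ B = ⊥ := eq_bot_iff.2 fun x hx => mem_bot.2 (hfix x hx.1.1
      (mem_centralizer_singleton_iff.1 hx.1.2) (mem_centralizer_singleton_iff.1 hx.2.2))
    have hABC : (A ⊔ B) ⊓ C = ⊥ := by
      refine eq_bot_iff.2 fun x hx => mem_bot.2 ?_
      obtain ⟨hxAB, hxC⟩ := hx
      have hAN : B ≤ normalizer (A : Set G) := fun b hb =>
        ConjUtil.mem_normalizer_of_conj_mem b fun a ha => by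
          rw [(hcomm b hb.1 a ha.1).eq, mul_inv_cancel_right]; exact ha
      obtain ⟨y, hy, w, hw, rfl⟩ := (CfsgLib.Solvable.mem_sup_of_le_normalizer hAN).1 hxAB
      have hyz : Commute y D.z := mem_centralizer_singleton_iff.1 hy.2
      have hwr : Commute w r := mem_centralizer_singleton_iff.1 hw.2
      have hyrE : r * y * r⁻¹ ∈ E := (mem_normalizer_iff.1 (hTE (D.refl_mem i)) y).1 hy.1
      have hwzE : D.z * w * D.z⁻¹ ∈ E := (mem_normalizer_iff.1 (hTE D.z_mem_S) w).1 hw.1
      -- `y * (r y r⁻¹)` is fixed by `z` and `r`, hence trivial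
      have hy' : r * y * r⁻¹ = y⁻¹ := by
        refine eq_inv_of_mul_eq_one_right (hfix _ (E.mul_mem hy.1 hyrE) ?_ ?_)
        · exact hyz.mul_left ((hzr.symm.mul_left hyz).mul_left hzr.symm.inv_left)
        · refine (mul_inv_eq_iff_eq_mul.1 ?_).symm
          calc r * (y * (r * y * r⁻¹)) * r⁻¹ = (r * y * r⁻¹) * ((r * r) * y * (r * r)⁻¹) := by group
            _ = (r * y * r⁻¹) * y := by rw [hr, D.refl_sq, inv_one, mul_one, one_mul]
            _ = y * (r * y * r⁻¹) := (hcomm _ hyrE y hy.1).eq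
      have hw' : D.z * w * D.z⁻¹ = w⁻¹ := by
        refine eq_inv_of_mul_eq_one_right (hfix _ (E.mul_mem hw.1 hwzE) ?_ ?_)
        · refine (mul_inv_eq_iff_eq_mul.1 ?_).symm
          calc D.z * (w * (D.z * w * D.z⁻¹)) * D.z⁻¹
              = (D.z * w * D.z⁻¹) * ((D.z * D.z) * w * (D.z * D.z)⁻¹) := by group
            _ = (D.z * w * D.z⁻¹) * w := by rw [D.z_sq, inv_one, mul_one, one_mul]
            _ = w * (D.z * w * D.z⁻¹) := (hcomm _ hwzE w hw.1).eq
        · exact hwr.mul_left ((hzr.mul_left hwr).mul_left hzr.inv_left)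
      have hx1 : (y * w) * (y * w) = 1 := by
        have h1 : (D.z * r) * (y * w) * (D.z * r)⁻¹ = y * w :=
          mul_inv_eq_iff_eq_mul.2 (mem_centralizer_singleton_iff.1 hxC.2).symm
        have h2 : (D.z * r) * (y * w) * (D.z * r)⁻¹ = y⁻¹ * w⁻¹ := by
          calc (D.z * r) * (y * w) * (D.z * r)⁻¹
              = D.z * (r * y * r⁻¹) * D.z⁻¹ * (D.z * (r * w * r⁻¹) * D.z⁻¹) := by group
            _ = D.z * y⁻¹ * D.z⁻¹ * (D.z * w * D.z⁻¹) := by
                rw [hy', hwr.symm.eq, mul_inv_cancel_right]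
            _ = y⁻¹ * w⁻¹ := by rw [hw', hyz.inv_left.symm.eq, mul_inv_cancel_right]
        have h3 := h1.symm.trans h2
        rw [← mul_inv_rev, (hcomm w hw.1 y hy.1).eq] at h3
        exact eq_inv_iff_mul_eq_one.1 h3
      exact eq_one_of_sq_of_odd (odd_orderOf_of_mem hEodd (E.mul_mem hy.1 hw.1)) hx1
    have h1 := card_mul_card_le_sup hAB
    have h2 := card_mul_card_le_sup hABC
    have hA' := prime_le_card (hEp.to_le inf_le_left) hz
    have hB' := prime_le_card (hEp.to_le inf_le_left) hrfix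
    have hC' := prime_le_card (hEp.to_le inf_le_left) hCne
    calc q ^ 3 = q * q * q := by ring
      _ ≤ Nat.card A * Nat.card B * Nat.card C := Nat.mul_le_mul (Nat.mul_le_mul hA' hB') hC'
      _ ≤ Nat.card (A ⊔ B : Subgroup G) * Nat.card C := Nat.mul_le_mul_right _ h1
      _ ≤ Nat.card (A ⊔ B ⊔ C : Subgroup G) := h2
      _ ≤ Nat.card E :=
        Subgroup.card_le_of_le (sup_le (sup_le inf_le_left inf_le_left) inf_le_left)
  · rcases involution_cases D ht ht2 with rfl | ⟨j, rfl⟩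
    · exact hz
    · exact hrefl j

end CfsgLib.GW.FpfFour
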