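import Cfsg.Agent.Lib.GW.KleinStrong
import Cfsg.Agent.S0508
import Cfsg.Agent.S0514

/-!
# Simple groups with dihedral Sylow 2-subgroups and fixed-point-free four-groups

A finite simple group with dihedral Sylow `2`-subgroups in which no element of odd order other than
the identity centralizes a four-group is isomorphic to `PSL(2, F)` for a field `F` of odd order.
-/

set_option autoImplicit false
set_option linter.style.haveILetI false

namespace CfsgLib.GW.FpfFour

open Subgroup CfsgLib.TwoFusion CfsgLib.TwoFusion.DihedralFusion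

universe u

variable {G : Type u} [Group G] [Finite G]

theorem hyp_of_simple [IsSimpleGroup G] (S : Sylow 2 G) (n : ℕ) (hn : 2 ≤ n)
    (e : (S : Subgroup G) ≃* DihedralGroup n)
    (hA : ∀ V : Subgroup G, IsKleinFour V → ∀ x ∈ centralizer (V : Set G),
      Odd (orderOf x) → x = 1) : Hyp G := by
  haveI : Fact (Nat.Prime 2) := ⟨Nat.prime_two⟩
  obtain ⟨D⟩ := exists_dihGens S.isPGroup' hn e
  have hidx : ∀ K : Subgroup G, K.index ≠ 2 := by
    intro K hK
    rcases (Subgroup.normal_of_index_eq_two hK).eq_bot_or_eq_top with h | h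
    · rw [h, index_bot] at hK
      have h4 : 4 ≤ Nat.card G := by
        have h1 : (4 : ℕ) ≤ Nat.card (S : Subgroup G) := by
          rw [D.card, show (4 : ℕ) = 2 ^ 2 by norm_num]
          exact Nat.pow_le_pow_right two_pos (by omega)
        exact h1.trans (Subgroup.card_le_card_group _)
      omega
    · rw [h, index_top] at hK
      omega
  refine ⟨hA, fun a b ha hb => one_class_of_isConj D (isConj_z_of_no_index_two D hidx) ha hb,
    ⟨S, ⟨D⟩⟩, fun z hz => ?_⟩
  obtain ⟨N, hN, hNodd, k, hk⟩ := Cfsg.Agent.S0514.result S n hn ⟨e⟩ z hz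
  haveI := CfsgLib.Solvable.pPrimeCore_normal 2 ↥(centralizer ({z} : Set G))
  obtain ⟨l, -, hl⟩ := (Nat.dvd_prime_pow Nat.prime_two).1
    (hk ▸ index_dvd_of_le (CfsgLib.Solvable.le_pPrimeCore hN (Nat.coprime_two_right.2 hNodd)))
  exact ⟨l, hl⟩

/-- The normalizers of the nontrivial subgroups of the core of `C(z)` lie in `C(z)`. -/
theorem normalizer_le [IsSimpleGroup G] (H : Hyp G) {T : Sylow 2 G} (D : DihGens (T : Subgroup G))
    {Y : Subgroup G} (hYU : Y ≤ U D.z) (hY : Y ≠ ⊥) :
    normalizer (Y : Set G) ≤ centralizer ({D.z} : Set G) := by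
  by_contra hN
  obtain ⟨q, hq, R, hq2, hR⟩ := exists_moved D H hYU hY hN
  obtain ⟨W, hWp, hWne, hWF⟩ := exists_fused H D 0 hq2 hR
  obtain ⟨P, hP, hPF⟩ := exists_sylow_fused H hq2 hWp hWne hWF
  exact not_fused_zj H hq2 P hP hPF

/-- A simple group with dihedral Sylow `2`-subgroups in which only the identity among the elements
of odd order centralizes a four-group is a `PSL(2, F)`, `|F|` odd. -/
theorem psl_of_fourFree [IsSimpleGroup G] (S : Sylow 2 G) (n : ℕ) (hn : 2 ≤ n)
    (hS : Nonempty ((S : Subgroup G) ≃* DihedralGroup n))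
    (hA : ∀ V : Subgroup G, IsKleinFour V → ∀ x ∈ centralizer (V : Set G),
      Odd (orderOf x) → x = 1) :
    ∃ (F : Type) (_ : Field F) (_ : Fintype F), Odd (Fintype.card F) ∧
      Nonempty (G ≃* Matrix.ProjectiveSpecialLinearGroup (Fin 2) F) := by
  obtain ⟨e⟩ := hS
  have H := hyp_of_simple S n hn e hA
  obtain ⟨D⟩ := exists_dihGens S.isPGroup' hn e
  refine Cfsg.Agent.S0508.result S n hn ⟨e⟩ D.z D.orderOf_z D.z_mem_S
    (fun s hs => (D.z_comm hs).eq.symm) (U D.z) rfl (fun hU => ?_) (fun s hs hsC y hy => ?_)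
    (fun Y hYU hY => normalizer_le H D hYU hY)
  · have hrot : ∀ s ∈ (S : Subgroup G), s ∈ centralizer (U D.z : Set G) → s ∈ zpowers D.a := by
      intro s hs hsC
      obtain ⟨i, rfl | rfl⟩ := D.cases s hs
      · exact ⟨i, rfl⟩
      · exfalso
        refine hU (eq_bot_iff.2 fun y hy => mem_bot.2 ?_)
        have h1 := refl_inverts D H i hy
        rw [← mem_centralizer_iff.1 hsC y hy, mul_inv_cancel_right] at h1
        exact eq_one_of_sq_of_odd (odd_of_mem_U hy) (eq_inv_iff_mul_eq_one.1 h1)
    have heq : (S : Subgroup G) ⊓ centralizer (U D.z : Set G) = zpowers D.a := by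
      refine le_antisymm (fun s hs => hrot s hs.1 hs.2) (zpowers_le.2 ⟨D.ha, ?_⟩)
      refine mem_centralizer_iff.2 fun y hy => ?_
      have h1 := rot_comm D H 1 hy
      rw [zpow_one] at h1
      exact h1.eq.symm
    rw [heq]
    refine ⟨inferInstance, ?_⟩
    have h := Subgroup.card_mul_index ((zpowers D.a).subgroupOf (S : Subgroup G))
    rw [Nat.card_congr (subgroupOfEquivOfLe (zpowers_le.2 D.ha)).toEquiv, Nat.card_zpowers,
      D.order_a, D.card, pow_succ 2 (D.k + 1)] at h
    exact Nat.eq_of_mul_eq_mul_left (pow_pos two_pos _) h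
  · obtain ⟨i, rfl | rfl⟩ := D.cases s hs
    · exact absurd (mem_centralizer_iff.2 fun x hx => (rot_comm D H i hx).eq.symm) hsC
    · exact refl_inverts D H i hy

end CfsgLib.GW.FpfFour
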