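import Cfsg.Agent.Lib.GW.KleinCentral

/-!
# Groups with dihedral Sylow 2-subgroups and fixed-point-free four-groups: fused local subgroups

Subgroups containing a full Sylow `2`-subgroup in which a reflection is fused with the central
involution.
-/

set_option autoImplicit false
set_option linter.style.haveILetI false

namespace CfsgLib.GW.FpfFour

open Subgroup CfsgLib.TwoFusion CfsgLib.TwoFusion.DihedralFusion

universe u

variable {G : Type u} [Group G] [Finite G]

/-- `N` contains a Sylow `2`-subgroup and fuses one of its reflections with its centre. -/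
def Fused (N : Subgroup G) : Prop :=
  ∃ (T : Sylow 2 G) (D : DihGens (T : Subgroup G)), (T : Subgroup G) ≤ N ∧
    ∃ i : ℤ, ∃ h ∈ N, h * (D.a ^ i * D.b) * h⁻¹ = D.z

theorem Fused.mono {N M : Subgroup G} (hN : Fused N) (hle : N ≤ M) : Fused M := by
  obtain ⟨T, D, hT, i, h, hh, he⟩ := hN
  exact ⟨T, D, hT.trans hle, i, h, hle hh, he⟩

/-- The moved invariant `q`-subgroups: no involution of the four-group centralizes them. -/
def Moved (q : ℕ) (V P : Subgroup G) : Prop :=
  IsPGroup q P ∧ V ≤ normalizer (P : Set G) ∧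
    ∀ v ∈ V, v ≠ 1 → ¬ P ≤ centralizer ({v} : Set G)

omit [Finite G] in
theorem Moved.mono {q : ℕ} {V P Q : Subgroup G} (hP : Moved q V P) (hle : P ≤ Q)
    (hQ : IsPGroup q Q) (hVQ : V ≤ normalizer (Q : Set G)) : Moved q V Q :=
  ⟨hQ, hVQ, fun v hv hv1 h => hP.2.2 v hv hv1 (hle.trans h)⟩

variable {T : Sylow 2 G} (D : DihGens (T : Subgroup G))

/-- With a Sylow `2`-subgroup of order four, one fusion gives all three. -/
theorem third_conj (hk : D.k = 0) {N : Subgroup G} (hT : (T : Subgroup G) ≤ N) {i : ℤ} {h : G}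
    (hh : h ∈ N) (he : h * (D.a ^ i * D.b) * h⁻¹ = D.z) :
    ∃ h' ∈ N, h' * (D.z * (D.a ^ i * D.b)) * h'⁻¹ = D.z := by
  haveI : Fact (Nat.Prime 2) := ⟨Nat.prime_two⟩
  set r := D.a ^ i * D.b with hr
  have hTeq : (T : Subgroup G) = D.four i := eq_four_of_k_zero D hk i
  have hcomm : ∀ x ∈ (T : Subgroup G), ∀ y ∈ (T : Subgroup G), x * y = y * x := by
    intro x hx y hy
    haveI := D.four_isKleinFour i
    have h1 := (IsKleinFour.isMulCommutative (G := D.four i)).is_comm.comm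
      ⟨x, hTeq ▸ hx⟩ ⟨y, hTeq ▸ hy⟩
    exact congrArg Subtype.val h1
  haveI : IsMulCommutative ((T.subtype hT : Sylow 2 N) : Subgroup N) :=
    IsMulCommutative.of_setLike_mul_comm fun x hx y hy => Subtype.ext (hcomm _ hx _ hy)
  have hbase : h⁻¹ * D.z * h = r := by rw [← he]; group
  obtain ⟨n, hn, hne⟩ := (T.subtype hT).conj_eq_normalizer_conj_of_mem
    (⟨D.z, hT D.z_mem_S⟩ : N) ⟨h, hh⟩ D.z_mem_S
    (show h⁻¹ * D.z * h ∈ (T : Subgroup G) from hbase ▸ D.refl_mem i)
  set m : G := ((n⁻¹ : N) : G) with hm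
  have hmN : ∀ x ∈ (T : Subgroup G), m * x * m⁻¹ ∈ (T : Subgroup G) := fun x hx =>
    (mem_normalizer_iff.1 (inv_mem hn) ⟨x, hT hx⟩).1 hx
  have hmz : m * D.z * m⁻¹ = r := by
    have h1 := congrArg (Subtype.val : N → G) hne
    simp only [Subgroup.coe_mul, Subgroup.coe_inv] at h1
    rw [← hbase, h1, hm, Subgroup.coe_inv, inv_inv]
  have hrz : Commute D.z r := D.z_comm (D.refl_mem i)
  have hmr := hmN r (D.refl_mem i)
  rw [hTeq, D.mem_four, ← hr] at hmr
  rcases hmr with h1 | h1 | h1 | h1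
  · exact absurd (conj_eq_one_iff.1 h1) (D.refl_ne_one i)
  · -- `m` swaps `z` and `r`: impossible
    exfalso
    obtain ⟨a, b, hb, hab⟩ := Nat.exists_eq_two_pow_mul_odd (orderOf_pos m).ne'
    have hsq : ∀ c : ℕ, m ^ (2 * c) * D.z * (m ^ (2 * c))⁻¹ = D.z := by
      intro c
      induction c with
      | zero => simp
      | succ c ih =>
        rw [show 2 * (c + 1) = 2 + 2 * c by ring, pow_add, pow_two]
        calc m * m * m ^ (2 * c) * D.z * (m * m * m ^ (2 * c))⁻¹
            = m * (m * (m ^ (2 * c) * D.z * (m ^ (2 * c))⁻¹) * m⁻¹) * m⁻¹ := by group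
          _ = D.z := by rw [ih, hmz, h1]
    obtain ⟨c, hc⟩ := hb
    have hmb : m ^ b * D.z * (m ^ b)⁻¹ = r := by
      rw [hc, add_comm, pow_add, pow_one]
      calc m * m ^ (2 * c) * D.z * (m * m ^ (2 * c))⁻¹
          = m * (m ^ (2 * c) * D.z * (m ^ (2 * c))⁻¹) * m⁻¹ := by group
        _ = r := by rw [hsq, hmz]
    have hp : IsPGroup 2 (zpowers (m ^ b)) := IsPGroup.of_card (n := a) (by
      have hbpos : 0 < b := by omega
      rw [Nat.card_zpowers, orderOf_pow_of_dvd hbpos.ne' (hab ▸ dvd_mul_left b _), hab,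
        Nat.mul_div_cancel _ hbpos])
    have hmT : m ^ b ∈ normalizer ((T : Subgroup G) : Set G) :=
      pow_mem (ConjUtil.mem_normalizer_of_conj_mem m hmN) b
    have hle := T.3 (hp.to_sup_of_normal_right' T.isPGroup' (zpowers_le.2 hmT))
      (le_sup_right : (T : Subgroup G) ≤ _)
    have hmem : m ^ b ∈ (T : Subgroup G) := hle ▸ mem_sup_left (mem_zpowers _)
    rw [hcomm _ hmem _ D.z_mem_S, mul_inv_cancel_right] at hmb
    exact D.z_ne_refl i hmb
  · exfalso
    have h2 : r = D.z := by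
      have h3 := h1.trans hmz.symm
      exact mul_left_cancel (mul_right_cancel h3)
    exact D.z_ne_refl i h2.symm
  · refine ⟨m, (n⁻¹ : N).2, ?_⟩
    calc m * (D.z * r) * m⁻¹ = (m * D.z * m⁻¹) * (m * r * m⁻¹) := by group
      _ = r * (D.z * r) := by rw [hmz, h1]
      _ = D.z := by rw [← mul_assoc, ← hrz.eq, mul_assoc, hr, D.refl_sq, mul_one]

omit D in
/-- The centralizer of an odd subgroup with fused normalizer has odd order. -/
theorem odd_cent (H : Hyp G) {W : Subgroup G} (hW : W ≠ ⊥) (hWo : Odd (Nat.card W))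
    (hF : Fused (normalizer (W : Set G))) : Odd (Nat.card (centralizer (W : Set G))) := by
  haveI : Fact (Nat.Prime 2) := ⟨Nat.prime_two⟩
  obtain ⟨T, D, hT, i, h, hh, he⟩ := hF
  obtain ⟨⟨x, hx⟩, hx1⟩ := Subgroup.ne_bot_iff_exists_ne_one.1 hW
  have hx1' : x ≠ 1 := fun e => hx1 (Subtype.ext e)
  set N := normalizer (W : Set G) with hN
  set C := centralizer (W : Set G) with hC
  have hconj : ∀ g ∈ N, ∀ c ∈ C, g * c * g⁻¹ ∈ C := by
    intro g hg c hc
    rw [hC, mem_centralizer_iff] at hc ⊢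
    intro y hy
    have hy' : g⁻¹ * y * g ∈ W := by simpa using (mem_normalizer_iff.1 (inv_mem hg) y).1 hy
    calc y * (g * c * g⁻¹) = g * ((g⁻¹ * y * g) * c) * g⁻¹ := by group
      _ = g * (c * (g⁻¹ * y * g)) * g⁻¹ := by rw [hc _ hy']
      _ = g * c * g⁻¹ * y := by group
  by_contra hev
  rw [Nat.not_odd_iff_even, even_iff_two_dvd] at hev
  obtain ⟨⟨c, hc⟩, hco⟩ := exists_prime_orderOf_dvd_card' 2 hev
  rw [Subgroup.orderOf_mk] at hco
  obtain ⟨g, hg, hgc⟩ := FusionTools.exists_conj_le N (T : Subgroup G) (zpowers c) T.isPGroup' hT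
    ((FusionTools.sylow_index_odd T).of_dvd_nat (Dvd.intro _ (relIndex_mul_index hT)))
    (IsPGroup.of_card (n := 1) (by rw [Nat.card_zpowers, hco, pow_one]))
    (zpowers_le.2 (centralizer_le_normalizer _ hc))
  have hc'T := hgc c (mem_zpowers c)
  have hc'C : g * c * g⁻¹ ∈ C := hconj g hg c hc
  have hc'o : orderOf (g * c * g⁻¹) = 2 := (conj_orderOf g c).trans hco
  suffices hz : D.z ∈ C by
    have hr : h⁻¹ * D.z * h⁻¹⁻¹ ∈ C := hconj _ (inv_mem hh) _ hz
    have e : h⁻¹ * D.z * h⁻¹⁻¹ = D.a ^ i * D.b := by rw [← he]; group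
    rw [e] at hr
    exact D.z_ne_refl i (eq_of_comm H (odd_orderOf_of_mem hWo hx) hx1' D.orderOf_z (D.orderOf_refl i)
      (D.z_comm (D.refl_mem i)) (mem_centralizer_iff.1 hz x hx) (mem_centralizer_iff.1 hr x hx))
  rcases involution_cases D hc'T hc'o with e | ⟨j, e⟩
  · exact e ▸ hc'C
  rw [e] at hc'C
  rcases Nat.eq_zero_or_pos D.k with hk | hk
  · have hj : D.a ^ j * D.b ∈ D.four i := eq_four_of_k_zero D hk i ▸ D.refl_mem j
    rcases D.mem_four.1 hj with h1 | h1 | h1 | h1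
    · exact absurd h1 (D.refl_ne_one j)
    · exact absurd h1 (D.z_ne_refl j).symm
    · rw [h1] at hc'C
      rw [← he]
      exact hconj h hh _ hc'C
    · obtain ⟨h', hh', he'⟩ := third_conj D hk hT hh he
      rw [h1] at hc'C
      rw [← he']
      exact hconj h' hh' _ hc'C
  · have hqN : D.q ∈ N := hT ((T : Subgroup G).zpow_mem D.ha _)
    have h1 := mul_mem (hconj _ hqN _ hc'C) (inv_mem hc'C)
    rwa [isConj_z_mul D j hk, mul_inv_cancel_right] at h1

/-- Without fusion there is a normal `2`-complement. -/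
theorem complement_of_not_fused {N : Subgroup G} (hT : (T : Subgroup G) ≤ N)
    (hnf : ∀ i : ℤ, ∀ h ∈ N, h * (D.a ^ i * D.b) * h⁻¹ ≠ D.z) :
    ∃ K : Subgroup G, K ≤ N ∧ N ≤ normalizer (K : Set G) ∧ Odd (Nat.card K) ∧
      ∃ l, K.relIndex N = 2 ^ l := by
  haveI : Fact (Nat.Prime 2) := ⟨Nat.prime_two⟩
  set TN : Sylow 2 N := T.subtype hT with hTN
  have hTNeq : (TN : Subgroup N) = (T : Subgroup G).subgroupOf N := rfl
  set Q : Subgroup N := (zpowers D.a).subgroupOf N with hQ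
  have hQi : Q.relIndex (TN : Subgroup N) = 2 := by
    rw [hTNeq, hQ, relIndex_subgroupOf hT]
    have h := Subgroup.card_mul_index ((zpowers D.a).subgroupOf (T : Subgroup G))
    rw [Nat.card_congr (subgroupOfEquivOfLe (zpowers_le.2 D.ha)).toEquiv, Nat.card_zpowers,
      D.order_a, D.card, pow_succ 2 (D.k + 1)] at h
    exact Nat.eq_of_mul_eq_mul_left (pow_pos two_pos _) h
  have hex : ∀ i : ℤ, ∃ M : Subgroup N, M.Normal ∧ M.index = 2 ∧
      (⟨D.a ^ i * D.b, hT (D.refl_mem i)⟩ : N) ∉ M := by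
    intro i
    refine FusionTools.exists_index_two_of_parity (TN : Subgroup N) Q (FusionTools.sylow_index_odd TN)
      hQi _ fun n g hg => ?_
    set r : N := ⟨D.a ^ i * D.b, hT (D.refl_mem i)⟩ with hr
    have hr2 : r * r = 1 := Subtype.ext (D.refl_sq i)
    rcases Nat.even_or_odd n with ⟨c, rfl⟩ | ⟨c, rfl⟩
    · have hp : r ^ (c + c) = 1 := by
        rw [pow_add, ← (Commute.refl r).mul_pow, hr2, one_pow]
      refine ⟨fun _ => ⟨c, rfl⟩, fun _ => ?_⟩
      rw [hp, mul_one, inv_mul_cancel]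
      exact one_mem _
    · have hp : r ^ (2 * c + 1) = r := by
        rw [pow_succ, pow_mul, pow_two, hr2, one_pow, one_mul]
      rw [hp]
      refine ⟨fun hQ' => absurd ?_ (hnf i (g : G)⁻¹ (inv_mem g.2)),
        fun hev => absurd hev (by simp [parity_simps])⟩
      have hmem : (g : G)⁻¹ * (D.a ^ i * D.b) * g ∈ zpowers D.a := hQ'
      have ho : orderOf ((g : G)⁻¹ * (D.a ^ i * D.b) * g) = 2 := by
        have := conj_orderOf (g : G)⁻¹ (D.a ^ i * D.b)
        rwa [inv_inv, D.orderOf_refl] at this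
      rw [inv_inv]
      exact (D.rot_sq_eq_one hmem (mul_self_of_orderOf_two ho)).resolve_left
        (ne_one_of_orderOf_two ho)
  obtain ⟨M0, hM0n, hM0i, hM0⟩ := hex 0
  obtain ⟨M1, hM1n, hM1i, hM1⟩ := hex 1
  haveI := hM0n
  haveI := hM1n
  have hidx : ∃ k, (M0 ⊓ M1).index = 2 ^ k := by
    have h1 : (M0 ⊓ M1).index = M0.index * (M1.relIndex M0) := by
      rw [← relIndex_mul_index (inf_le_left : M0 ⊓ M1 ≤ M0), inf_relIndex_left, mul_comm]
    have h2 : M1.relIndex M0 ∣ 2 ^ 1 := by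
      rw [pow_one, ← hM1i]; exact relIndex_dvd_index_of_normal M1 M0
    obtain ⟨a, -, ha⟩ := (Nat.dvd_prime_pow Nat.prime_two).1 h2
    exact ⟨1 + a, by rw [h1, hM0i, ha, pow_add, pow_one]⟩
  obtain ⟨k, hk⟩ := hidx
  have hrot : ∀ x ∈ (TN : Subgroup N) ⊓ (M0 ⊓ M1), (x : G) ∈ zpowers D.a := by
    intro x hx
    obtain ⟨hxT, hx0, hx1⟩ := hx
    obtain ⟨j, hj | hj⟩ := D.cases (x : G) hxT
    · exact hj ▸ zpow_mem (mem_zpowers _) j
    · exfalso
      rcases Int.even_or_odd j with ⟨c, rfl⟩ | ⟨c, rfl⟩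
      · refine hM0 ?_
        have hsq := FusionTools.sq_mem_of_index_two hM0i
          (⟨D.a ^ (-c), hT ((T : Subgroup G).zpow_mem D.ha _)⟩ : N)
        have e : (⟨D.a ^ (0 : ℤ) * D.b, hT (D.refl_mem 0)⟩ : N) =
            (⟨D.a ^ (-c), hT ((T : Subgroup G).zpow_mem D.ha _)⟩ : N) *
              ⟨D.a ^ (-c), hT ((T : Subgroup G).zpow_mem D.ha _)⟩ * x := Subtype.ext (by
          show _ = D.a ^ (-c) * D.a ^ (-c) * (x : G)
          rw [hj, ← mul_assoc, ← zpow_add, ← zpow_add, show -c + -c + (c + c) = (0 : ℤ) by ring])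
        rw [e]
        exact mul_mem hsq hx0
      · refine hM1 ?_
        have hsq := FusionTools.sq_mem_of_index_two hM1i
          (⟨D.a ^ (-c), hT ((T : Subgroup G).zpow_mem D.ha _)⟩ : N)
        have e : (⟨D.a ^ (1 : ℤ) * D.b, hT (D.refl_mem 1)⟩ : N) =
            (⟨D.a ^ (-c), hT ((T : Subgroup G).zpow_mem D.ha _)⟩ : N) *
              ⟨D.a ^ (-c), hT ((T : Subgroup G).zpow_mem D.ha _)⟩ * x := Subtype.ext (by
          show _ = D.a ^ (-c) * D.a ^ (-c) * (x : G)
          rw [hj, ← mul_assoc, ← zpow_add, ← zpow_add, show -c + -c + (2 * c + 1) = (1 : ℤ) by ring])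
        rw [e]
        exact mul_mem hsq hx1
  have hcyc : IsCyclic ((TN : Subgroup N) ⊓ (M0 ⊓ M1) : Subgroup N) :=
    isCyclic_of_injective
      (({ toFun := fun x => ⟨((x : N) : G), hrot x x.2⟩
          map_one' := rfl
          map_mul' := fun _ _ => rfl } :
        ((TN : Subgroup N) ⊓ (M0 ⊓ M1) : Subgroup N) →* zpowers D.a))
      fun p r e => Subtype.ext (Subtype.ext (congrArg (fun w : zpowers D.a => (w : G)) e))
  obtain ⟨P', C, hCn, hC⟩ := FusionTools.hasNormalPComplement_of_cyclic TN (M0 ⊓ M1) hk hcyc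
  haveI := hCn
  refine ⟨C.map N.subtype, map_subtype_le C,
    (normal_subgroupOf_iff_le_normalizer (map_subtype_le C)).1 ?_, ?_, ?_⟩
  · rw [subgroupOf, comap_map_eq_self_of_injective N.subtype_injective]
    exact hCn
  · rw [card_map_of_injective N.subtype_injective, ← hC.index_eq_card]
    exact FusionTools.sylow_index_odd P'
  · obtain ⟨l, hl⟩ := IsPGroup.iff_card.1 P'.isPGroup'
    refine ⟨l, ?_⟩
    rw [relIndex, subgroupOf, comap_map_eq_self_of_injective N.subtype_injective,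
      hC.symm.index_eq_card, hl]

end CfsgLib.GW.FpfFour
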