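import Cfsg.Agent.Lib.TwoFusion.DihedralFusionMain
import Cfsg.Agent.Lib.TwoFusion.ConjUtil
import Cfsg.Agent.Lib.PLocal.QdConsumers
import Cfsg.Agent.Lib.LocalEven.Involves
import Mathlib.FieldTheory.Finite.Basic

/-!
# `Qd(p)` is not involved in a group with dihedral Sylow 2-subgroups
-/

set_option autoImplicit false
set_option linter.style.haveILetI false

namespace CfsgLib.GW.FpfFour

open Subgroup CfsgLib.TwoFusion CfsgLib.TwoFusion.DihedralFusion
open scoped MatrixGroups

/-- Two elements of order four of `SL(2,p)` generating a quaternion group. -/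
theorem exists_quat (p : ℕ) [Fact p.Prime] (hp : p ≠ 2) :
    ∃ u v : SL(2, ZMod p), u * u ≠ 1 ∧ v * v ≠ 1 ∧ u * v ≠ v * u ∧
      IsPGroup 2 (zpowers u ⊔ zpowers v : Subgroup SL(2, ZMod p)) := by
  haveI : Fact (Nat.Prime 2) := ⟨Nat.prime_two⟩
  have h2 : (2 : ZMod p) ≠ 0 := fun h => hp (by
    have h' : ((2 : ℕ) : ZMod p) = 0 := by exact_mod_cast h
    rw [ZMod.natCast_eq_zero_iff] at h'
    exact (Nat.prime_dvd_prime_iff_eq Fact.out Nat.prime_two).1 h')
  obtain ⟨a, b, hab⟩ := ZMod.sq_add_sq p (-1)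
  let u : SL(2, ZMod p) := ⟨!![0, 1; -1, 0], by simp [Matrix.det_fin_two_of]⟩
  let v : SL(2, ZMod p) := ⟨!![a, b; b, -a], by
    rw [Matrix.det_fin_two_of]; linear_combination -hab⟩
  let m : SL(2, ZMod p) := ⟨!![-1, 0; 0, -1], by simp [Matrix.det_fin_two_of]⟩
  have hu : u * u = m := by
    refine Subtype.ext ?_
    rw [Matrix.SpecialLinearGroup.coe_mul]
    ext i j
    fin_cases i <;> fin_cases j <;> simp [u, m, Matrix.mul_apply, Fin.sum_univ_two]
  have hv : v * v = m := by
    refine Subtype.ext ?_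
    rw [Matrix.SpecialLinearGroup.coe_mul]
    ext i j
    fin_cases i <;> fin_cases j <;> simp [v, m, Matrix.mul_apply, Fin.sum_univ_two]
    all_goals first | ring1 | linear_combination hab | linear_combination -hab
  have hm1 : m ≠ 1 := by
    intro h
    have := congrArg (fun x : SL(2, ZMod p) => (x : Matrix (Fin 2) (Fin 2) (ZMod p)) 0 0) h
    simp [m] at this
    exact h2 (by linear_combination -this)
  have hmm : m * m = 1 := by
    refine Subtype.ext ?_
    rw [Matrix.SpecialLinearGroup.coe_mul]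
    ext i j
    fin_cases i <;> fin_cases j <;> simp [m, Matrix.mul_apply, Fin.sum_univ_two]
  have huv : u * v = v * u * m := by
    refine Subtype.ext ?_
    rw [Matrix.SpecialLinearGroup.coe_mul, Matrix.SpecialLinearGroup.coe_mul, Matrix.SpecialLinearGroup.coe_mul]
    ext i j
    fin_cases i <;> fin_cases j <;> simp [u, v, m, Matrix.mul_apply, Fin.sum_univ_two]
  have hconj : u * v * u⁻¹ = v⁻¹ := by
    rw [huv, ← hu]
    refine eq_inv_of_mul_eq_one_left ?_
    calc v * u * (u * u) * u⁻¹ * v = v * (u * u) * v := by group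
      _ = v * (v * v) * v := by rw [hu, hv]
      _ = (v * v) * (v * v) := by group
      _ = 1 := by rw [hv, hmm]
  have hord : ∀ w : SL(2, ZMod p), w * w = m → IsPGroup 2 (zpowers w) := by
    intro w hw
    refine IsPGroup.of_card (n := 2) ?_
    rw [Nat.card_zpowers]
    refine orderOf_eq_prime_pow (n := 1) (p := 2) ?_ ?_
    · rw [pow_one, pow_two, hw]; exact hm1
    · rw [pow_succ, pow_one, pow_mul, pow_two w, hw, pow_two, hmm]
  refine ⟨u, v, hu.trans_ne hm1, hv.trans_ne hm1, fun h => hm1 ?_,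
    IsPGroup.to_sup_of_normal_right' (hord u hu) (hord v hv) ?_⟩
  · rw [h] at huv
    exact mul_eq_left.1 huv.symm
  · rw [zpowers_le, mem_normalizer_iff]
    intro x
    constructor
    · intro hx
      obtain ⟨i, rfl⟩ := mem_zpowers_iff.1 hx
      rw [← conj_zpow, hconj]
      exact zpow_mem (inv_mem (mem_zpowers v)) i
    · intro hx
      obtain ⟨i, hi⟩ := mem_zpowers_iff.1 hx
      have h3 : x = (u⁻¹ * v * u) ^ i := by
        have h4 := conj_zpow (i := i) (a := u⁻¹) (b := v)
        rw [inv_inv] at h4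
        rw [h4, hi]; group
      have h5 : u⁻¹ * v * u = v⁻¹ := by
        calc u⁻¹ * v * u = u⁻¹ * (u * v * u⁻¹)⁻¹ * u := by rw [hconj, inv_inv]
          _ = v⁻¹ := by group
      rw [h3, h5]
      exact zpow_mem (inv_mem (mem_zpowers v)) i

variable {G : Type*} [Group G] [Finite G]

/-- `Qd(p)` is not a section of a group with dihedral Sylow `2`-subgroups. -/
theorem not_hasQdSection {S : Sylow 2 G} (D : DihGens (S : Subgroup G)) (p : ℕ) [Fact p.Prime]
    (hp : p ≠ 2) : ¬ CfsgLib.PLoc.HasQdSection p G := by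
  haveI : Fact (Nat.Prime 2) := ⟨Nat.prime_two⟩
  intro hqd
  obtain ⟨K, f, hf⟩ := CfsgLib.LocalEven.exists_surjective_of_involves
    (show Cfsg.Involves ↥(Cfsg.qd p) G from hqd)
  obtain ⟨u, v, hu, hv, huv, hW⟩ := exists_quat p hp
  set ι := CfsgLib.PLoc.qdLinear p with hι
  have hinj : Function.Injective ι :=
    Function.LeftInverse.injective (g := CfsgLib.PLoc.qdToSL2 p) CfsgLib.PLoc.qdToSL2_qdLinear
  set W := (zpowers u ⊔ zpowers v).map ι with hWdef
  let K' : Subgroup K := W.comap f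
  let f' : K' →* W := (f.comp K'.subtype).codRestrict W fun x => x.2
  have hf' : Function.Surjective f' := fun w => by
    obtain ⟨k, hk⟩ := hf (w : ↥(Cfsg.qd p))
    exact ⟨⟨k, show f k ∈ W from hk.symm ▸ w.2⟩, Subtype.ext hk⟩
  obtain ⟨T⟩ := (inferInstance : Nonempty (Sylow 2 K'))
  have htop : (T.mapSurjective hf' : Subgroup W) = ⊤ := by
    haveI : Finite W := Finite.of_surjective f' hf'
    exact (T.mapSurjective hf').3
      (IsPGroup.of_equiv (hW.map ι) Subgroup.topEquiv.symm) le_top |>.symm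
  have hlift : ∀ w ∈ W, ∃ t ∈ (T : Subgroup K'), ((f' t : W) : ↥(Cfsg.qd p)) = w := by
    intro w hw
    have hm : (⟨w, hw⟩ : W) ∈ (T.mapSurjective hf' : Subgroup W) := htop ▸ mem_top _
    obtain ⟨t, ht, he⟩ := hm
    exact ⟨t, ht, congrArg Subtype.val he⟩
  obtain ⟨a, ha, hau⟩ := hlift (ι u) (mem_map_of_mem ι (mem_sup_left (mem_zpowers u)))
  obtain ⟨b, hb, hbv⟩ := hlift (ι v) (mem_map_of_mem ι (mem_sup_right (mem_zpowers v)))
  set j := K.subtype.comp K'.subtype with hj
  have hjinj : Function.Injective j := K.subtype_injective.comp K'.subtype_injective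
  obtain ⟨g, hg⟩ := ConjUtil.exists_conjMap_le S (T.isPGroup'.map j)
  set φ := (MulAut.conj g).toMonoidHom.comp j with hφ
  have hφinj : Function.Injective φ := (MulAut.conj g).injective.comp hjinj
  have hmem : ∀ t ∈ (T : Subgroup K'), φ t ∈ (S : Subgroup G) := fun t ht =>
    hg ⟨j t, mem_map_of_mem j ht, rfl⟩
  have hsq : ∀ (t : K') (w : SL(2, ZMod p)), ((f' t : W) : ↥(Cfsg.qd p)) = ι w → w * w ≠ 1 →
      φ t ∈ (S : Subgroup G) → φ t ∈ zpowers D.a := by
    intro t w htw hw hS
    obtain ⟨i, h | h⟩ := D.cases (φ t) hS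
    · exact ⟨i, h.symm⟩
    · exfalso
      have h1 : t * t = 1 := hφinj (by rw [map_mul, map_one, h, D.refl_sq])
      refine hw (hinj ?_)
      rw [map_mul, map_one, ← htw, ← Subgroup.coe_mul, ← map_mul, h1, map_one, Subgroup.coe_one]
  obtain ⟨i, hi⟩ := mem_zpowers_iff.1 (hsq a u hau hu (hmem a ha))
  obtain ⟨k, hk⟩ := mem_zpowers_iff.1 (hsq b v hbv hv (hmem b hb))
  have hab : a * b = b * a := hφinj (by
    rw [map_mul, map_mul, ← hi, ← hk]
    exact ((Commute.refl D.a).zpow_zpow i k).eq)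
  refine huv (hinj ?_)
  rw [map_mul, map_mul, ← hau, ← hbv, ← Subgroup.coe_mul, ← Subgroup.coe_mul, ← map_mul, ← map_mul, hab]

end CfsgLib.GW.FpfFour
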