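import Cfsg.Agent.Lib.GW.KleinFused
import Cfsg.Agent.Lib.GW.KleinQd
import Cfsg.Agent.Lib.Fusion.ZJCenter
import Cfsg.Agent.Lib.LocEven.ZJClosed
import Cfsg.Agent.S3081

/-!
# Groups with dihedral Sylow 2-subgroups and fixed-point-free four-groups: a fusing local subgroup

If the normalizer of a subgroup of the core of `C(z)` is not in `C(z)`, some normalizer of a
nontrivial `q`-subgroup, `q` odd, contains a Sylow `2`-subgroup and fuses a reflection with `z`.
-/

set_option autoImplicit false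
set_option linter.style.haveILetI false

namespace CfsgLib.GW.FpfFour

open Subgroup CfsgLib.TwoFusion CfsgLib.TwoFusion.DihedralFusion

universe u

variable {G : Type u} [Group G] [Finite G]

theorem odd_of_pgroup {q : ℕ} [hq : Fact q.Prime] (hq2 : q ≠ 2) {P : Subgroup G}
    (hP : IsPGroup q P) : Odd (Nat.card P) := by
  obtain ⟨n, hn⟩ := IsPGroup.iff_card.1 hP
  exact hn ▸ (hq.out.odd_of_ne_two hq2).pow

theorem isPGroup_zpowers {q : ℕ} [Fact q.Prime] {K : Subgroup G} (hK : IsPGroup q K) {x : G}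
    (hx : x ∈ K) : IsPGroup q (zpowers x) :=
  hK.to_le (zpowers_le.2 hx)

/-- Strong control of fusion by `N(ZJ(P))`. -/
theorem zj_fusion {S : Sylow 2 G} (D : DihGens (S : Subgroup G)) {q : ℕ} [Fact q.Prime]
    (hq : q ≠ 2) (P : Sylow q G) {A : Set G} (hA : A ⊆ ((P : Subgroup G) : Set G)) {g : G}
    (hg : ∀ a ∈ A, g * a * g⁻¹ ∈ (P : Subgroup G)) :
    ∃ x ∈ normalizer (CfsgLib.ZJCenter.zj 0 (P : Subgroup G) : Set G),
      ∀ a ∈ A, g * a * g⁻¹ = x * a * x⁻¹ := by
  have h := ((Cfsg.Agent.S3081.result hq P (P : Subgroup G) ⟨le_rfl, fun _ _ _ hgx => hgx⟩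
    (not_hasQdSection D q hq)).1 A hA).2 g (by rintro _ ⟨a, ha, rfl⟩; exact hg a ha)
  rwa [CfsgLib.LocEven.ZJClosed.centerThompsonAOf_eq_zj] at h

variable {T : Sylow 2 G} (D : DihGens (T : Subgroup G))

/-- Generation by the centralizers of the elements of a four-group. -/
theorem le_of_pieces (i : ℤ) {P W : Subgroup G} (hVP : D.four i ≤ normalizer (P : Set G))
    (hP : Odd (Nat.card P))
    (h : ∀ v ∈ D.four i, v ≠ 1 → P ⊓ centralizer ({v} : Set G) ≤ W) : P ≤ W := by
  haveI := D.four_isKleinFour i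
  haveI : IsMulCommutative (D.four i) := IsKleinFour.isMulCommutative
  exact CfsgLib.Solvable.le_of_centralizer_le IsKleinFour.not_isCyclic hVP (four_coprime D i hP) h

/-- A cyclic subgroup of the odd core of `C(z)` is normalized by `C(z)`. -/
theorem four_le_normalizer_zpowers (H : Hyp G) (i : ℤ) {x : G} (hx : x ∈ U D.z) :
    D.four i ≤ normalizer (zpowers x : Set G) :=
  ((D.four_le i).trans (sylow_le_cent D)).trans
    (cent_le_normalizer D H (zpowers_le.2 hx))

/-- A bad normalizer gives a moved invariant subgroup. -/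
theorem exists_moved (H : Hyp G) {Y : Subgroup G} (hYU : Y ≤ U D.z) (hY : Y ≠ ⊥)
    (hN : ¬ normalizer (Y : Set G) ≤ centralizer ({D.z} : Set G)) :
    ∃ (q : ℕ) (_ : Fact q.Prime) (R : Subgroup G), q ≠ 2 ∧ Moved q (D.four 0) R := by
  classical
  set K := oddPart (centralizer (Y : Set G)) with hK
  have hKodd : Odd (Nat.card K) := oddPart_odd _
  have hVK : D.four 0 ≤ normalizer (K : Set G) :=
    ((D.four_le 0).trans (sylow_le_cent D)).trans (normalizer_oddPart D H hYU)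
  have hKz : ¬ K ≤ centralizer ({D.z} : Set G) := fun h => hN (normalizer_le_cent D H hYU hY h)
  obtain ⟨q, hq, R, hR, hRz⟩ : ∃ (q : ℕ) (_ : Fact q.Prime) (R : Sylow q K),
      (D.four 0 ≤ normalizer (((R : Subgroup K).map K.subtype : Subgroup G) : Set G) ∧
        ∀ Q : Subgroup G, Q ≤ K → IsPGroup q Q → D.four 0 ≤ normalizer (Q : Set G) →
          Q ≤ (R : Subgroup K).map K.subtype) ∧
      ¬ (R : Subgroup K).map K.subtype ≤ centralizer ({D.z} : Set G) := by
    by_contra hno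
    push Not at hno
    refine hKz ?_
    set K' := (centralizer ({D.z} : Set G)).subgroupOf K with hK'
    suffices h : K' = ⊤ by rwa [hK', subgroupOf_eq_top] at h
    rw [← index_eq_one]
    by_contra hne
    obtain ⟨q, hq, hqd⟩ := Nat.exists_prime_and_dvd hne
    haveI := Fact.mk hq
    obtain ⟨R, hR⟩ := exists_inv_sylow D H 0 hKodd hVK q
    refine R.not_dvd_index (hqd.trans (index_dvd_of_le fun x hx => ?_))
    exact hno q (Fact.mk hq) R hR ⟨x, hx, rfl⟩
  obtain ⟨hVR, hRmax⟩ := hR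
  set R' := (R : Subgroup K).map K.subtype with hR'
  have hRp : IsPGroup q R' := R.2.map _
  have hRK : R' ≤ K := map_subtype_le _
  have hne : R' ≠ ⊥ := fun h => hRz (h ▸ bot_le)
  have hq2 : q ≠ 2 := by
    rintro rfl
    obtain ⟨n, hn⟩ := IsPGroup.iff_card.1 hRp
    rcases n with _ | n
    · exact hne (eq_bot_of_card_eq R' (by rw [hn, pow_zero]))
    · have h2 := hKodd.of_dvd_nat (card_dvd_of_le hRK)
      rw [hn, Nat.odd_pow_iff n.succ_ne_zero] at h2
      exact absurd h2 (by decide)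
  refine ⟨q, hq, R', hq2, hRp, hVR, ?_⟩
  intro v hv hv1 hle
  -- reflections of the four-group centralizing `R'` are impossible
  have key : ∀ j : ℤ, D.a ^ j * D.b ∈ D.four 0 →
      ¬ R' ≤ centralizer ({D.a ^ j * D.b} : Set G) := by
    intro j hj hle
    obtain ⟨g, hg⟩ := isConj_iff.1 (H.one_class D.z (D.a ^ j * D.b) D.orderOf_z (D.orderOf_refl j))
    refine hne (eq_bot_iff.2 fun x hx => ?_)
    have hxc : Commute x (D.a ^ j * D.b) := mem_centralizer_singleton_iff.1 (hle hx)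
    obtain ⟨n, hn⟩ := IsPGroup.iff_orderOf.1 hRp ⟨x, hx⟩
    rw [Subgroup.orderOf_mk] at hn
    set x' := g⁻¹ * x * g with hx'
    have ho : orderOf x' = q ^ n := by
      rw [hx', ← hn]
      simpa using conj_orderOf g⁻¹ x
    have hxz : Commute x' D.z := by
      have h := hxc.map (MulAut.conj g⁻¹).toMonoidHom
      simp only [MulEquiv.coe_toMonoidHom, MulAut.conj_apply, inv_inv] at h
      rw [← hg, show g⁻¹ * (g * D.z * g⁻¹) * g = D.z by group] at h
      exact h
    have hodd : Odd (orderOf x') := ho ▸ ((Fact.out : q.Prime).odd_of_ne_two hq2).pow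
    have hxU : x' ∈ U D.z := mem_U H D.orderOf_z hxz hodd
    have hxR : x' ∈ R' := hRmax _ (zpowers_le.2 (U_le_oddPart D H hYU hY hxU))
      (IsPGroup.of_card (n := n) (by rw [Nat.card_zpowers, ho]))
      (four_le_normalizer_zpowers D H 0 hxU) (mem_zpowers x')
    have h1 : x' = 1 := eq_one_of_comm H (D.orderOf_refl j) D.orderOf_z (D.z_ne_refl j).symm
      (D.z_comm (D.refl_mem j)).symm (mem_centralizer_singleton_iff.1 (hle hxR)) hxz hodd
    rw [mem_bot]
    simpa using (conj_eq_one_iff (a := g⁻¹) (b := x)).1 (by rw [inv_inv]; exact h1)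
  rcases D.mem_four.1 hv with rfl | rfl | rfl | rfl
  · exact hv1 rfl
  · exact hRz hle
  · exact key 0 hv hle
  · rw [z_mul_refl] at hv hle
    exact key _ hv hle

/-- From a maximal moved subgroup whose centre meets the centralizer of `z`. -/
theorem exists_fused_of_max (H : Hyp G) (i : ℤ) {q : ℕ} [hq : Fact q.Prime] (hq2 : q ≠ 2)
    {P : Subgroup G} (hP : Moved q (D.four i) P)
    (hmax : ∀ Q : Subgroup G, Moved q (D.four i) Q → P ≤ Q → Q = P)
    {z0 : G} (hz0P : z0 ∈ P) (hz0c : z0 ∈ centralizer (P : Set G))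
    (hz0z : Commute z0 D.z) (hz0 : z0 ≠ 1) :
    ∃ W : Subgroup G, IsPGroup q W ∧ W ≠ ⊥ ∧ Fused (normalizer (W : Set G)) := by
  haveI : Fact (Nat.Prime 2) := ⟨Nat.prime_two⟩
  obtain ⟨hPp, hVP, hPm⟩ := hP
  have hPodd := odd_of_pgroup hq2 hPp
  have hPne : P ≠ ⊥ := fun h => hz0 (mem_bot.1 (h ▸ hz0P))
  have hY : zpowers z0 ≠ ⊥ := fun h => hz0 (mem_bot.1 (h ▸ mem_zpowers z0))
  have hYU : zpowers z0 ≤ U D.z :=
    zpowers_le.2 (mem_U H D.orderOf_z hz0z (odd_orderOf_of_mem hPodd hz0P))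
  set K := oddPart (centralizer (zpowers z0 : Set G)) with hK
  have hKodd : Odd (Nat.card K) := oddPart_odd _
  have hTK : (T : Subgroup G) ≤ normalizer (K : Set G) :=
    (sylow_le_cent D).trans (normalizer_oddPart D H hYU)
  have hVK : D.four i ≤ normalizer (K : Set G) := (D.four_le i).trans hTK
  have hPK : P ≤ K := fun x hx => mem_oddPart_cent D H hYU hY (mem_centralizer_iff.2 fun y hy => by
    obtain ⟨n, rfl⟩ := mem_zpowers_iff.1 hy
    exact ((show Commute x z0 from mem_centralizer_iff.1 hz0c x hx).zpow_right n).eq.symm)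
    (odd_orderOf_of_mem hPodd hx)
  obtain ⟨R, hVR, hR⟩ := exists_inv_sylow D H i hKodd hVK q
  have hPR : P ≤ (R : Subgroup K).map K.subtype := hR P hPK hPp hVP
  have hRP : (R : Subgroup K).map K.subtype = P :=
    hmax _ (Moved.mono ⟨hPp, hVP, hPm⟩ hPR (R.2.map _) hVR) hPR
  -- `P` is normalized by `T`
  have hcop : (Nat.card (T : Subgroup G)).Coprime (Nat.card K) := by
    obtain ⟨n, hn⟩ := IsPGroup.iff_card.1 T.isPGroup'
    exact hn ▸ (Nat.coprime_two_left.2 hKodd).pow_left n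
  haveI : Group.IsNilpotent (T : Subgroup G) := T.isPGroup'.isNilpotent
  obtain ⟨R2, hR2⟩ := CfsgLib.Solvable.exists_invariant_sylow hTK hcop (Or.inl inferInstance) q
  have hR2P : (R2 : Subgroup K).map K.subtype = P := by
    refine eq_of_le_of_card_ge (hRP ▸ hR _ (map_subtype_le _) (R2.2.map _) ((D.four_le i).trans hR2)) ?_
    rw [← hRP, card_subtype, card_subtype, R.card_eq_multiplicity, R2.card_eq_multiplicity]
  have hTP : (T : Subgroup G) ≤ normalizer (P : Set G) := hR2P ▸ hR2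
  by_cases hnf : ∃ j : ℤ, ∃ h ∈ normalizer (P : Set G), h * (D.a ^ j * D.b) * h⁻¹ = D.z
  · exact ⟨P, hPp, hPne, T, D, hTP, hnf⟩
  push Not at hnf
  -- `P` is a Sylow subgroup of `G`
  obtain ⟨n, hn⟩ := IsPGroup.iff_card.1 hPp
  have hndvd : ¬ q ^ (n + 1) ∣ Nat.card G := by
    intro hd
    set N := normalizer (P : Set G) with hN
    have hNd : q ^ (n + 1) ∣ Nat.card N := Sylow.prime_pow_dvd_card_normalizer hd hn
    obtain ⟨K0, hK0N, hNK0, hK0odd, l, hl⟩ := complement_of_not_fused D hTP hnf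
    have hcard : Nat.card N = Nat.card K0 * 2 ^ l := by
      rw [← hl, relIndex, ← card_mul_index (K0.subgroupOf N),
        Nat.card_congr (subgroupOfEquivOfLe hK0N).toEquiv]
    have hK0d : q ^ (n + 1) ∣ Nat.card K0 := by
      rw [hcard] at hNd
      exact (((Nat.coprime_primes hq.out Nat.prime_two).2 hq2).pow _ _).dvd_of_dvd_mul_right hNd
    have hVK0 : D.four i ≤ normalizer (K0 : Set G) := ((D.four_le i).trans hTP).trans hNK0
    obtain ⟨R0, hVR0, hR0⟩ := exists_inv_sylow D H i hK0odd hVK0 q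
    have hPK0 : P ≤ K0 := by
      intro x hx
      haveI : (K0.subgroupOf N).Normal := normal_subgroupOf_of_le_normalizer hNK0
      have hm := FusionTools.mem_normal_of_odd (K := K0.subgroupOf N) hl
        (g := (⟨x, le_normalizer hx⟩ : N)) (by rw [Subgroup.orderOf_mk]; exact odd_orderOf_of_mem hPodd hx)
      exact hm
    have hPR0 := hR0 P hPK0 hPp hVP
    have hR0P := hmax _ (Moved.mono ⟨hPp, hVP, hPm⟩ hPR0 (R0.2.map _) hVR0) hPR0
    have hd0 : q ^ (n + 1) ∣ Nat.card ((R0 : Subgroup K0).map K0.subtype) := by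
      rw [card_subtype]
      exact R0.pow_dvd_card_of_pow_dvd_card hK0d
    rw [hR0P, hn] at hd0
    have := (Nat.pow_dvd_pow_iff_le_right hq.out.one_lt).1 hd0
    omega
  have hfac : (Nat.card G).factorization q = n := by
    have hG0 : Nat.card G ≠ 0 := Nat.card_pos.ne'
    apply le_antisymm
    · by_contra hlt
      exact hndvd ((pow_dvd_pow q (by omega)).trans (Nat.ordProj_dvd (Nat.card G) q))
    · exact (hq.out.pow_dvd_iff_le_factorization hG0).1 (hn ▸ card_subgroup_dvd_card P)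
  let Ps : Sylow q G := Sylow.ofCard P (by rw [hn, hfac])
  have hPs : (Ps : Subgroup G) = P := Sylow.coe_ofCard P _
  refine ⟨CfsgLib.ZJCenter.zj 0 P, hPp.to_le (CfsgLib.ZJCenter.zj_le 0 P),
    CfsgLib.ZJCenter.zj_ne_bot (Or.inl rfl) hPp hPne, T, D,
    hTP.trans (CfsgLib.ZJCenter.normalizer_le_normalizer_zj 0 P), ?_⟩
  set Ns := normalizer (CfsgLib.ZJCenter.zj 0 P : Set G) with hNs
  obtain ⟨w, hw, hw1, hwz, r, hrP, hrw, hr1⟩ : ∃ w ∈ D.four i, w ≠ 1 ∧ w ≠ D.z ∧
      ∃ r ∈ P, Commute r w ∧ r ≠ 1 := by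
    by_contra hno
    push Not at hno
    refine hPm D.z (D.z_mem_four i) D.z_ne_one (le_of_pieces D i hVP hPodd fun v hv hv1 x hx => ?_)
    by_cases hvz : v = D.z
    · exact hvz ▸ hx.2
    · rw [hno v hv hv1 hvz x hx.1 (mem_centralizer_singleton_iff.1 hx.2)]
      exact one_mem _
  have hwo : orderOf w = 2 := by
    refine orderOf_eq_prime ?_ hw1
    rw [pow_two]
    exact DihGens.sq_of_klein (D.four_isKleinFour i) hw
  have hwT : w ∈ Ns :=
    CfsgLib.ZJCenter.normalizer_le_normalizer_zj 0 P (hTP (D.four_le i hw))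
  obtain ⟨j, hj⟩ := exists_refl D (D.four_le i hw) hwo hwz
  obtain ⟨g, hg⟩ := isConj_iff.1 (H.one_class w D.z hwo D.orderOf_z)
  set r' := g * r * g⁻¹ with hr'
  have hr'z : Commute r' D.z := by
    have h := hrw.map (MulAut.conj g).toMonoidHom
    simp only [MulEquiv.coe_toMonoidHom, MulAut.conj_apply, hg] at h
    exact h
  have hr'o : Odd (orderOf r') := by rw [hr', conj_orderOf]; exact odd_orderOf_of_mem hPodd hrP
  have hr'U : r' ∈ U D.z := mem_U H D.orderOf_z hr'z hr'o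
  have hr'P : r' ∈ P := by
    refine hRP.le (hR _ (zpowers_le.2 (U_le_oddPart D H hYU hY hr'U)) ?_
      (four_le_normalizer_zpowers D H i hr'U) (mem_zpowers r'))
    obtain ⟨m, hm⟩ := IsPGroup.iff_orderOf.1 hPp ⟨r, hrP⟩
    rw [Subgroup.orderOf_mk] at hm
    exact IsPGroup.of_card (n := m) (by rw [Nat.card_zpowers, hr', conj_orderOf, hm])
  obtain ⟨x, hx, hxa⟩ := zj_fusion D hq2 Ps (A := {r}) (g := g)
    (Set.singleton_subset_iff.2 (hPs ▸ hrP))
    (fun a ha => by rw [Set.mem_singleton_iff] at ha; rw [ha, hPs]; exact hr'P)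
  rw [hPs] at hx
  have hxr := hxa r rfl
  have hr'w : Commute r' (x * w * x⁻¹) := by
    have h := hrw.map (MulAut.conj x).toMonoidHom
    simp only [MulEquiv.coe_toMonoidHom, MulAut.conj_apply] at h
    rwa [← hxr] at h
  obtain ⟨-, c, hc, hcz⟩ := exists_conj_of_cent H hr'o
    (fun e => hr1 (conj_eq_one_iff.1 e)) ((conj_orderOf x w).trans hwo) D.orderOf_z hr'w hr'z
  have hwx : x * w * x⁻¹ ∈ Ns := mul_mem (mul_mem hx hwT) (inv_mem hx)
  have hzN : D.z ∈ Ns := CfsgLib.ZJCenter.normalizer_le_normalizer_zj 0 P (hTP D.z_mem_S)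
  refine ⟨j, c * x, mul_mem (zpowers_le.2 (mul_mem hwx hzN) hc) hx, ?_⟩
  rw [← hj, ← hcz]
  group

omit D in
/-- A moved subgroup gives a fusing local subgroup. -/
theorem exists_fused (H : Hyp G) {T : Sylow 2 G} (D : DihGens (T : Subgroup G)) (i : ℤ) {q : ℕ}
    [hq : Fact q.Prime] (hq2 : q ≠ 2) {R : Subgroup G} (hR : Moved q (D.four i) R) :
    ∃ W : Subgroup G, IsPGroup q W ∧ W ≠ ⊥ ∧ Fused (normalizer (W : Set G)) := by
  haveI : Fact (Nat.Prime 2) := ⟨Nat.prime_two⟩
  obtain ⟨P, -, hP⟩ := (Set.toFinite {Q : Subgroup G | Moved q (D.four i) Q}).exists_le_maximal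
    (a := R) hR
  have hmax : ∀ Q : Subgroup G, Moved q (D.four i) Q → P ≤ Q → Q = P := fun Q hQ hle =>
    le_antisymm (hP.2 hQ hle) hle
  obtain ⟨hPp, hVP, hPm⟩ := hP.prop
  have hPodd := odd_of_pgroup hq2 hPp
  have hPne : P ≠ ⊥ := fun h => hPm D.z (D.z_mem_four i) D.z_ne_one (h ▸ bot_le)
  set Z := P ⊓ centralizer (P : Set G) with hZ
  have hVZ : D.four i ≤ normalizer (Z : Set G) := le_normalizer_iff.2 fun v hv x hx => by
    refine ⟨le_normalizer_iff.1 hVP v hv x hx.1, mem_centralizer_iff.2 fun y hy => ?_⟩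
    have hy' : v⁻¹ * y * v ∈ P := by
      simpa using le_normalizer_iff.1 hVP v⁻¹ (inv_mem hv) y hy
    have h := mem_centralizer_iff.1 hx.2 _ hy'
    calc y * (v * x * v⁻¹) = v * ((v⁻¹ * y * v) * x) * v⁻¹ := by group
      _ = v * (x * (v⁻¹ * y * v)) * v⁻¹ := by rw [h]
      _ = v * x * v⁻¹ * y := by group
  have hZne : Z ≠ ⊥ := by
    haveI : Nontrivial P := (Subgroup.nontrivial_iff_ne_bot P).2 hPne
    haveI := hPp.center_nontrivial
    obtain ⟨⟨⟨x, hx⟩, hxc⟩, hx1⟩ := exists_ne (1 : center P)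
    refine fun h => hx1 (Subtype.ext (Subtype.ext ?_))
    refine mem_bot.1 (h ▸ (⟨hx, mem_centralizer_iff.2 fun y hy => ?_⟩ : x ∈ Z))
    exact congrArg Subtype.val (mem_center_iff.1 hxc ⟨y, hy⟩)
  obtain ⟨v, hv, hv1, z0, hz0, hz0v, hz01⟩ : ∃ v ∈ D.four i, v ≠ 1 ∧
      ∃ z0 ∈ Z, Commute z0 v ∧ z0 ≠ 1 := by
    by_contra hno
    push Not at hno
    refine hZne (le_bot_iff.1 (le_of_pieces D i hVZ
      (hPodd.of_dvd_nat (card_dvd_of_le inf_le_left)) fun v hv hv1 x hx => ?_))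
    rw [hno v hv hv1 x hx.1 (mem_centralizer_singleton_iff.1 hx.2)]
    exact one_mem _
  have hvo : orderOf v = 2 := by
    refine orderOf_eq_prime ?_ hv1
    rw [pow_two]
    exact DihGens.sq_of_klein (D.four_isKleinFour i) hv
  have hVv : D.four i ≤ centralizer ({v} : Set G) := fun x hx => by
    haveI := D.four_isKleinFour i
    exact mem_centralizer_singleton_iff.2 (congrArg Subtype.val
      ((IsKleinFour.isMulCommutative (G := D.four i)).is_comm.comm ⟨x, hx⟩ ⟨v, hv⟩))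
  obtain ⟨T', D', hz', hle⟩ := exists_frame H hvo (D.four i)
    (T.isPGroup'.to_le (D.four_le i)) hVv
  obtain ⟨j, hj⟩ := D'.klein_cases (D.four_isKleinFour i) hle
  exact exists_fused_of_max D' H j hq2 (hj ▸ ⟨hPp, hVP, hPm⟩ : Moved q (D'.four j) P)
    (fun Q hQ => hmax Q (hj ▸ hQ)) hz0.1 hz0.2 (hz' ▸ hz0v) hz01

end CfsgLib.GW.FpfFour
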