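import Cfsg.Agent.Lib.GW.KleinElem
import Cfsg.Agent.Lib.Signalizer.SolvableFunctor
import Cfsg.Agent.Lib.Signalizer.LocalCore
import Cfsg.Agent.Lib.Signalizer.Connected
import Cfsg.Agent.Lib.Invol.StronglyEmbedded
import Cfsg.Agent.Lib.SEmb.Counting

/-!
# Groups with dihedral Sylow 2-subgroups and fixed-point-free four-groups: a strongly embedded
subgroup

The signalizer functor of `E = Ω₁(ZJ(P))` gives a strongly embedded subgroup, and counting its
involutions gives a contradiction.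
-/

set_option autoImplicit false
set_option linter.style.haveILetI false

namespace CfsgLib.GW.FpfFour

open Subgroup CfsgLib.TwoFusion CfsgLib.TwoFusion.DihedralFusion CfsgLib.Balance
open scoped Pointwise

universe u

variable {G : Type u} [Group G] [Finite G] {q : ℕ} [hq : Fact q.Prime]

/-- Balance for commuting elements, one of them a `q`-element. -/
theorem core_inf_le {a x : G} (hsolv : Group.IsSolvable ↥(centralizer ({a} : Set G)))
    (hx : IsPGroup q (zpowers x)) (hxa : Commute x a) :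
    coreP q (centralizer ({x} : Set G)) ⊓ centralizer ({a} : Set G) ≤
      coreP q (centralizer ({a} : Set G)) := by
  rintro y ⟨hy, hya⟩
  set C := centralizer ({a} : Set G) with hC
  haveI := hsolv
  set x' : C := ⟨x, mem_centralizer_singleton_iff.2 hxa⟩ with hx'
  have hxp : IsPGroup q (zpowers x') := by
    obtain ⟨n, hn⟩ := IsPGroup.iff_card.1 hx
    refine IsPGroup.iff_card.2 ⟨n, ?_⟩
    rw [Nat.card_zpowers, hx', orderOf_mk, ← Nat.card_zpowers, hn]
  have hle : (coreP q (centralizer ({x} : Set G))).subgroupOf C ≤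
      coreP q (centralizer (zpowers x' : Set C)) := by
    rw [centralizer_zpowers]
    refine le_coreP (fun z hz => ?_) (le_normalizer_iff.mpr fun g hg z hz => ?_) ?_
    · rw [mem_centralizer_singleton_iff]
      exact Subtype.ext (mem_centralizer_singleton_iff.mp (coreP_le q _ (mem_subgroupOf.mp hz)))
    · rw [mem_subgroupOf] at hz ⊢
      exact le_normalizer_iff.mp (le_normalizer_coreP q _) (g : G)
        (mem_centralizer_singleton_iff.mpr
          (congrArg Subtype.val (mem_centralizer_singleton_iff.mp hg))) (z : G) hz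
    · exact (coreP_coprime q _).coprime_dvd_left (card_comap_dvd_of_injective _ _ C.subtype_injective)
  exact ⟨⟨y, hya⟩, CfsgLib.Signalizer.coreP_centralizer_le CfsgLib.Signalizer.pLayer_eq_bot_of_isSolvable
    hxp (hle (mem_subgroupOf.mpr hy)), rfl⟩

/-- The proper overgroup of `N(E)` given by the signalizer functor. -/
theorem exists_overgroup [IsSimpleGroup G] (H : Hyp G) (hq2 : q ≠ 2) {E : Subgroup G}
    (hE : Cfsg.IsElementaryAbelian q E) (hE3 : q ^ 3 ≤ Nat.card E) (hE1 : E ≠ ⊤) :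
    ∃ M : Subgroup G, M ≠ ⊤ ∧ normalizer (E : Set G) ≤ M ∧
      ∀ a ∈ E, a ≠ 1 → coreP q (centralizer ({a} : Set G)) ≤ M := by
  have hEp := CfsgLib.Signalizer.elementary_isPGroup hE
  have hEodd := odd_of_pgroup hq2 hEp
  have hθ := CfsgLib.Signalizer.solvable_functor_of_solvable_centralizers hE fun a ha ha1 =>
    isSolvable_cent H (odd_orderOf_of_mem hEodd ha) ha1
  obtain ⟨hW, -⟩ := CfsgLib.Signalizer.iSup_functor_spec hE hE3 hθ
  set W := ⨆ a : {a : G // a ∈ E ∧ a ≠ 1}, Cfsg.centralizerPPrimeCore q (a : G) with hWdef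
  have hEne : E ≠ ⊥ := by
    rintro rfl
    rw [Subgroup.card_bot] at hE3
    exact absurd hE3 (not_le.2 (Nat.one_lt_pow (by norm_num) hq.out.one_lt))
  have hqG : q ∣ Nat.card G := by
    refine dvd_trans ?_ (card_subgroup_dvd_card E)
    obtain ⟨n, hn⟩ := IsPGroup.iff_card.1 hEp
    exact hn ▸ dvd_pow_self q fun h0 => hEne (eq_bot_of_card_eq E (by rw [hn, h0, pow_zero]))
  have hNW : normalizer (E : Set G) ≤ normalizer (W : Set G) := by
    refine le_normalizer_iff.2 fun n hn x hx => ?_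
    have hle : W.map (MulAut.conj n).toMonoidHom ≤ W := by
      rw [hWdef, Subgroup.map_iSup]
      refine iSup_le fun a => ?_
      rw [← CfsgLib.Signalizer.Connected.centralizerPPrimeCore_conj]
      exact le_iSup (fun a : {a : G // a ∈ E ∧ a ≠ 1} => Cfsg.centralizerPPrimeCore q (a : G))
        ⟨n * (a : G) * n⁻¹, (mem_normalizer_iff.1 hn a).1 a.2.1,
          fun h => a.2.2 (conj_eq_one_iff.1 h)⟩
    exact hle ⟨x, hx, rfl⟩
  have hθW : ∀ a ∈ E, a ≠ 1 → coreP q (centralizer ({a} : Set G)) ≤ W := fun a ha ha1 =>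
    le_iSup (fun a : {a : G // a ∈ E ∧ a ≠ 1} => Cfsg.centralizerPPrimeCore q (a : G)) ⟨a, ha, ha1⟩
  by_cases hW1 : W = ⊥
  · refine ⟨normalizer (E : Set G), fun h => ?_, le_rfl, fun a ha ha1 => ?_⟩
    · exact ((normalizer_eq_top_iff.1 h).eq_bot_or_eq_top).elim hEne hE1
    · exact (hθW a ha ha1).trans (hW1 ▸ bot_le)
  · refine ⟨normalizer (W : Set G), fun h => ?_, hNW, fun a ha ha1 =>
      (hθW a ha ha1).trans le_normalizer⟩
    rcases (normalizer_eq_top_iff.1 h).eq_bot_or_eq_top with h1 | h1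
    · exact hW1 h1
    · refine CfsgLib.Signalizer.family_not_dvd hW ?_
      rw [h1, Subgroup.card_top]
      exact hqG

/-- Centralizers of `q`-elements centralizing `E` lie in the overgroup. -/
theorem cent_le (H : Hyp G) (hq2 : q ≠ 2) (P : Sylow q G) {M : Subgroup G}
    (hE3 : q ^ 3 ≤ Nat.card (zjOmega q (P : Subgroup G)))
    (hNM : normalizer (zjOmega q (P : Subgroup G) : Set G) ≤ M)
    (hθM : ∀ a ∈ zjOmega q (P : Subgroup G), a ≠ 1 → coreP q (centralizer ({a} : Set G)) ≤ M)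
    {x : G} (hxp : IsPGroup q (zpowers x)) (hx1 : x ≠ 1)
    (hxE : x ∈ centralizer (zjOmega q (P : Subgroup G) : Set G)) :
    centralizer ({x} : Set G) ≤ M := by
  obtain ⟨T, ⟨D⟩⟩ := H.sylow
  set E := zjOmega q (P : Subgroup G) with hE
  have hEel : Cfsg.IsElementaryAbelian q E := zjOmega_elementary _
  have hEp : IsPGroup q E := CfsgLib.Signalizer.elementary_isPGroup hEel
  have hxo : Odd (orderOf x) := odd_orderOf_of_mem (odd_of_pgroup hq2 hxp) (mem_zpowers x)
  set C := centralizer ({x} : Set G) with hC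
  haveI hCsolv : Group.IsSolvable C := isSolvable_cent H hxo hx1
  have hEC : E ≤ C := fun e he =>
    mem_centralizer_singleton_iff.2 (mem_centralizer_iff.1 hxE e he)
  -- the `q'`-core
  have hOM : coreP q C ≤ M := by
    refine CfsgLib.Signalizer.le_of_centralizers hEel
      ((Nat.pow_le_pow_right hq.out.pos (by norm_num)).trans hE3)
      (fun hd => hq.out.ne_one (Nat.eq_one_of_dvd_coprimes (coreP_coprime q C) hd dvd_rfl))
      (hEC.trans (le_normalizer_coreP q C)) fun a ha ha1 => ?_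
    refine (core_inf_le (isSolvable_cent H (odd_orderOf_of_mem (odd_of_pgroup hq2 hEp) ha) ha1)
      hxp ?_).trans (hθM a ha ha1)
    exact (mem_centralizer_iff.1 hxE a ha).symm
  -- inside `C`
  set O' := Cfsg.pPrimeCore q C with hO'
  haveI hO'n : O'.Normal := CfsgLib.Solvable.pPrimeCore_normal q C
  set f := QuotientGroup.mk' O' with hf
  have hfs : Function.Surjective f := QuotientGroup.mk'_surjective O'
  have hkercop : (Nat.card f.ker).Coprime q := by
    rw [QuotientGroup.ker_mk']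
    exact CfsgLib.Solvable.pPrimeCore_card_coprime q C
  haveI : Group.IsSolvable (C ⧸ O') := Group.isSolvable_of_surjective hfs
  have hcon := CfsgLib.Case.centralizer_pCore_le_of_solvable
    (CfsgLib.Solvable.pPrimeCore_quotient_eq_bot (p := q) O' rfl)
  have hst : CfsgLib.PLoc.PStableNormal q (C ⧸ O') :=
    (CfsgLib.PLoc.pStableNormal_or_qd hq2 (C ⧸ O')).resolve_right fun h =>
      not_hasQdSection D q hq2 (CfsgLib.PLoc.hasQdSection_of_subgroup C
        (CfsgLib.PLoc.hasQdSection_of_surjective hfs h))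
  set E' : Subgroup C := E.subgroupOf C with hE'
  have hE'p : IsPGroup q E' := hEp.of_equiv (subgroupOfEquivOfLe hEC).symm
  obtain ⟨R, hER⟩ := hE'p.exists_le_sylow
  have hERG : E ≤ (R : Subgroup C).map C.subtype := fun e he => ⟨⟨e, hEC he⟩, hER he, rfl⟩
  obtain ⟨hRN, -⟩ := le_normalizer_zjOmega D hq2 P (R.2.map _) hERG
  have hRE' : (R : Subgroup C) ≤ normalizer (E' : Set C) := fun r hr =>
    ConjUtil.mem_normalizer_of_conj_mem r fun e he =>
      (mem_normalizer_iff.1 (hRN ⟨r, hr, rfl⟩) (e : G)).1 he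
  haveI : IsMulCommutative E' := IsMulCommutative.of_setLike_mul_comm fun a ha b hb =>
    Subtype.ext (CfsgLib.Signalizer.elementary_commute hEel ha hb)
  have hEcore : E'.map f ≤ Cfsg.pCore q (C ⧸ O') :=
    CfsgLib.PLoc.abelian_normal_in_sylow_le_pCore hcon hst (R.mapSurjective hfs)
      (Subgroup.map_isMulCommutative E' (f := f)) (map_mono hER)
      ((map_mono hRE').trans (le_normalizer_map f))
  set Q := (R : Subgroup C) ⊓ (Cfsg.pCore q (C ⧸ O')).comap f with hQ
  have hQp : IsPGroup q Q := R.2.to_le inf_le_left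
  have hQf : Q.map f = Cfsg.pCore q (C ⧸ O') := by
    refine le_antisymm ((map_mono inf_le_right).trans (map_comap_le _ _)) fun y hy => ?_
    obtain ⟨r, hr, rfl⟩ := CfsgLib.Solvable.pCore_le_sylow (R.mapSurjective hfs) hy
    exact ⟨r, ⟨hr, hy⟩, rfl⟩
  have hEQ : E ≤ Q.map C.subtype := fun e he =>
    ⟨⟨e, hEC he⟩, ⟨hER he, hEcore ⟨⟨e, hEC he⟩, he, rfl⟩⟩, rfl⟩
  obtain ⟨-, hQN⟩ := le_normalizer_zjOmega D hq2 P (hQp.map _) hEQ
  intro c hc
  have hn : f ⟨c, hc⟩ ∈ normalizer ((Q.map f : Subgroup (C ⧸ O')) : Set (C ⧸ O')) := by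
    rw [hQf]
    haveI := CfsgLib.Solvable.pCore_normal q (C ⧸ O')
    rw [normalizer_eq_top]
    exact mem_top _
  rw [CfsgLib.PLoc.normalizer_map_eq hfs hkercop hQp] at hn
  obtain ⟨m, hm, hme⟩ := hn
  have hmM : (m : G) ∈ M := hNM (hQN (le_normalizer_map C.subtype ⟨m, hm, rfl⟩))
  have ho : (⟨c, hc⟩ : C) * m⁻¹ ∈ O' := by
    rw [← QuotientGroup.ker_mk' O', MonoidHom.mem_ker, map_mul, map_inv, ← hf, hme, mul_inv_cancel]
  have hoM : c * (m : G)⁻¹ ∈ M := hOM ⟨_, ho, rfl⟩
  have h := mul_mem hoM hmM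
  rwa [inv_mul_cancel_right] at h

omit hq in
theorem exists_involution_not_mem [IsSimpleGroup G] (H : Hyp G) {M : Subgroup G} (hM : M ≠ ⊤) :
    ∃ u : G, orderOf u = 2 ∧ u ∉ M := by
  by_contra hno
  push Not at hno
  obtain ⟨T, ⟨D⟩⟩ := H.sylow
  have hle : normalClosure ({D.z} : Set G) ≤ M := by
    refine (closure_le _).2 fun x hx => ?_
    obtain ⟨a, ha, hax⟩ := Group.mem_conjugatesOfSet_iff.1 hx
    rw [Set.mem_singleton_iff] at ha
    subst ha
    obtain ⟨c, rfl⟩ := isConj_iff.1 hax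
    exact hno _ ((conj_orderOf c D.z).trans D.orderOf_z)
  rcases (normalClosure_normal (s := ({D.z} : Set G))).eq_bot_or_eq_top with h | h
  · exact D.z_ne_one (mem_bot.1 (h ▸ subset_normalClosure (Set.mem_singleton D.z)))
  · exact hM (top_le_iff.1 (h ▸ hle))

/-- No Sylow `q`-subgroup has a fusing `N(ZJ(P))`. -/
theorem not_fused_zj [IsSimpleGroup G] (H : Hyp G) (hq2 : q ≠ 2) (P : Sylow q G)
    (hP : (P : Subgroup G) ≠ ⊥)
    (hF : Fused (normalizer (CfsgLib.ZJCenter.zj 0 (P : Subgroup G) : Set G))) : False := by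
  haveI : Fact (Nat.Prime 2) := ⟨Nat.prime_two⟩
  obtain ⟨hE3, hCodd, T, ⟨D⟩, hTE, hpieces⟩ := pieces H hq2 P hP hF
  set E := zjOmega q (P : Subgroup G) with hE
  have hEtop : E ≠ ⊤ := by
    intro h
    have h1 := odd_of_pgroup hq2 (P.2.to_le (zjOmega_le (q := q) (P : Subgroup G)))
    rw [← hE, h, Subgroup.card_top] at h1
    exact not_odd_orderOf_two D.orderOf_z (h1.of_dvd_nat (orderOf_dvd_natCard D.z))
  obtain ⟨M, hMtop, hNM, hθM⟩ := exists_overgroup H hq2 (zjOmega_elementary _) hE3 hEtop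
  have hPM : (P : Subgroup G) ≤ M :=
    (le_normalizer_zjOmega D hq2 P P.2 (zjOmega_le _)).1.trans hNM
  have hTM : (T : Subgroup G) ≤ M := hTE.trans hNM
  have hcent : ∀ {x : G}, IsPGroup q (zpowers x) → x ≠ 1 → x ∈ centralizer (E : Set G) →
      centralizer ({x} : Set G) ≤ M := fun hxp hx1 hxE => cent_le H hq2 P hE3 hNM hθM hxp hx1 hxE
  -- conjugation into `P` inside `M`
  have hinto : ∀ R : Subgroup G, IsPGroup q R → R ≤ M →
      ∃ y ∈ M, ∀ r ∈ R, y * r * y⁻¹ ∈ (P : Subgroup G) := by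
    intro R hR hRM
    obtain ⟨y, hy⟩ := ConjUtil.exists_conjMap_le (P.subtype hPM)
      (hR.of_equiv (subgroupOfEquivOfLe hRM).symm)
    exact ⟨y, y.2, fun r hr => hy ⟨⟨r, hRM hr⟩, hr, rfl⟩⟩
  -- elements moving a centralizing element of `P` into `M`
  have hgood : ∀ {x0 g : G}, x0 ∈ (P : Subgroup G) → x0 ∈ centralizer (E : Set G) → x0 ≠ 1 →
      g * x0 * g⁻¹ ∈ M → g ∈ M := by
    intro x0 g hx0P hx0E hx01 hgx
    obtain ⟨y, hy, hyP⟩ := hinto (zpowers (g * x0 * g⁻¹)) (by
      obtain ⟨n, hn⟩ := IsPGroup.iff_card.1 (isPGroup_zpowers P.2 hx0P)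
      exact IsPGroup.of_card (n := n) (by rw [Nat.card_zpowers, conj_orderOf, ← Nat.card_zpowers, hn]))
      (zpowers_le.2 hgx)
    obtain ⟨n, hn, hna⟩ := zj_fusion D hq2 P (A := {x0}) (g := y * g)
      (Set.singleton_subset_iff.2 hx0P) (fun a ha => by
        rw [Set.mem_singleton_iff] at ha
        rw [ha, show y * g * x0 * (y * g)⁻¹ = y * (g * x0 * g⁻¹) * y⁻¹ by group]
        exact hyP _ (mem_zpowers _))
    have hnM : n ∈ M := hNM (zjOmega_normalizer _ hn)
    have hc : n⁻¹ * (y * g) ∈ centralizer ({x0} : Set G) := by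
      rw [mem_centralizer_singleton_iff]
      have h := hna x0 rfl
      calc n⁻¹ * (y * g) * x0 = n⁻¹ * ((y * g) * x0 * (y * g)⁻¹) * (y * g) := by group
        _ = x0 * (n⁻¹ * (y * g)) := by rw [h]; group
    have h1 := mul_mem hnM (hcent (isPGroup_zpowers P.2 hx0P) hx01 hx0E hc)
    rw [mul_inv_cancel_left] at h1
    simpa using mul_mem (inv_mem hy) h1
  -- the piece of an involution of `T`
  have hpiece : ∀ t ∈ (T : Subgroup G), orderOf t = 2 → ∃ e ∈ E, e ≠ 1 ∧ Commute e t ∧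
      e ∈ centralizer (E : Set G) := by
    intro t ht ht2
    obtain ⟨⟨e, he⟩, he1⟩ := Subgroup.ne_bot_iff_exists_ne_one.1 (hpieces t ht ht2)
    exact ⟨e, he.1, fun h => he1 (Subtype.ext h), mem_centralizer_singleton_iff.1 he.2,
      mem_centralizer_iff.2 fun y hy =>
        (CfsgLib.Signalizer.elementary_commute (zjOmega_elementary _) hy he.1)⟩
  have hCT : ∀ t ∈ (T : Subgroup G), orderOf t = 2 → centralizer ({t} : Set G) ≤ M := by
    intro t ht ht2
    obtain ⟨e, heE, he1, het, heC⟩ := hpiece t ht ht2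
    have hep : IsPGroup q (zpowers e) := isPGroup_zpowers (P.2.to_le (zjOmega_le _)) heE
    have heo : Odd (orderOf e) := odd_orderOf_of_mem (odd_of_pgroup hq2 hep) (mem_zpowers e)
    by_cases htz : t = D.z
    · subst htz
      exact cent_invol_le H ht2 (D.orderOf_refl 0) (D.z_ne_refl 0).symm
        (D.z_comm (D.refl_mem 0)).symm het heo (hcent hep he1 heC) (hTM (D.refl_mem 0))
    · exact cent_invol_le H ht2 D.orderOf_z (fun h => htz h.symm) (D.z_comm ht) het heo
        (hcent hep he1 heC) (hTM D.z_mem_S)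
  -- `M` is strongly embedded
  have heven : Even (Nat.card M) :=
    even_iff_two_dvd.2 (D.orderOf_z ▸ Subgroup.orderOf_dvd_natCard M (hTM D.z_mem_S))
  have hTi : Odd ((T : Subgroup G).relIndex M) :=
    (FusionTools.sylow_index_odd T).of_dvd_nat (Dvd.intro _ (relIndex_mul_index hTM))
  have hintoT : ∀ t ∈ M, orderOf t = 2 → ∃ y ∈ M, y * t * y⁻¹ ∈ (T : Subgroup G) := by
    intro t ht ht2
    obtain ⟨y, hy, hyT⟩ := FusionTools.exists_conj_le M (T : Subgroup G) (zpowers t) T.isPGroup' hTM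
      hTi (IsPGroup.of_card (n := 1) (by rw [Nat.card_zpowers, ht2, pow_one])) (zpowers_le.2 ht)
    exact ⟨y, hy, hyT t (mem_zpowers t)⟩
  have hCM : ∀ t ∈ M, orderOf t = 2 → centralizer ({t} : Set G) ≤ M := by
    intro t ht ht2 c hc
    obtain ⟨y, hy, hyT⟩ := hintoT t ht ht2
    have h := hCT _ hyT ((conj_orderOf y t).trans ht2) (show y * c * y⁻¹ ∈ _ from by
      rw [mem_centralizer_singleton_iff]
      calc y * c * y⁻¹ * (y * t * y⁻¹) = y * (c * t) * y⁻¹ := by group
        _ = y * (t * c) * y⁻¹ := by rw [mem_centralizer_singleton_iff.1 hc]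
        _ = y * t * y⁻¹ * (y * c * y⁻¹) := by group)
    simpa [mul_assoc] using mul_mem (mul_mem (inv_mem hy) h) hy
  have hSE : Cfsg.IsStronglyEmbedded M := by
    rw [CfsgLib.Invol.isStronglyEmbedded_iff_fusion hMtop heven]
    intro t ht ht2 g hg
    obtain ⟨y, hy, hyT⟩ := hintoT t ht ht2
    obtain ⟨e, heE, he1, het, heC⟩ := hpiece _ hyT ((conj_orderOf y t).trans ht2)
    set t' := y * t * y⁻¹ with ht'
    set g' := g * y⁻¹ with hg'
    have hg't : g' * t' * g'⁻¹ ∈ M := by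
      rw [hg', ht', show g * y⁻¹ * (y * t * y⁻¹) * (g * y⁻¹)⁻¹ = g * t * g⁻¹ by group]
      exact hg
    have hxM : g' * e * g'⁻¹ ∈ M := by
      refine hCM _ hg't (by rw [conj_orderOf, ht', conj_orderOf, ht2]) ?_
      rw [mem_centralizer_singleton_iff]
      calc g' * e * g'⁻¹ * (g' * t' * g'⁻¹) = g' * (e * t') * g'⁻¹ := by group
        _ = g' * (t' * e) * g'⁻¹ := by rw [het.eq]
        _ = g' * t' * g'⁻¹ * (g' * e * g'⁻¹) := by group
    have h1 := hgood (zjOmega_le _ heE) heC he1 hxM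
    simpa [hg'] using mul_mem h1 hy
  obtain ⟨u, hu, huM⟩ := exists_involution_not_mem H hMtop
  set D0 := M ⊓ M.map (MulAut.conj u).toMonoidHom with hD0
  set C := centralizer ({D.z} : Set G) with hC
  have hCle : C ≤ M := hCT D.z D.z_mem_S D.orderOf_z
  -- `M = D₀ C(z)`
  have hset : ((D0 : Set G) * (C : Set G)) = (M : Set G) := by
    refine Set.Subset.antisymm ?_ fun m hm => ?_
    · rintro _ ⟨d, hd, c, hc, rfl⟩
      exact mul_mem hd.1 (hCle hc)
    · have hxy : (QuotientGroup.mk 1 : G ⧸ M) ≠ QuotientGroup.mk u := fun h => huM (by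
        simpa using QuotientGroup.eq.1 h)
      have hb : m * D.z * m⁻¹ ∈ M := mul_mem (mul_mem hm (hTM D.z_mem_S)) (inv_mem hm)
      obtain ⟨d, ⟨hd1, hd2⟩, hd⟩ := CfsgLib.SEmb.exists_conj hSE D.orderOf_z
        ((conj_orderOf m D.z).trans D.orderOf_z)
        ((CfsgLib.SEmb.smul_one_eq_iff (H := M) D.z).2 (hTM D.z_mem_S)) hxy
        ((CfsgLib.SEmb.smul_one_eq_iff (H := M) _).2 hb)
      refine ⟨d, (CfsgLib.SEmb.mem_inter_iff u d).2 ⟨hd1, hd2⟩, d⁻¹ * m, ?_, mul_inv_cancel_left d m⟩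
      show d⁻¹ * m ∈ C
      rw [hC, mem_centralizer_singleton_iff]
      calc d⁻¹ * m * D.z = d⁻¹ * (m * D.z * m⁻¹) * m := by group
        _ = d⁻¹ * (d * D.z * d⁻¹) * m := by rw [hd]
        _ = D.z * (d⁻¹ * m) := by group
  have hmul := CfsgLib.Signalizer.card_mul_set D0 C
  rw [hset] at hmul
  have hdvd : Nat.card (P : Subgroup G) ∣ Nat.card D0 * Nat.card C :=
    (card_dvd_of_le hPM).trans ⟨_, hmul.symm⟩
  -- the `q`-parts
  obtain ⟨R0⟩ := (inferInstance : Nonempty (Sylow q D0))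
  obtain ⟨Uc⟩ := (inferInstance : Nonempty (Sylow q C))
  set UG := (Uc : Subgroup C).map C.subtype with hUG
  have hUp : IsPGroup q UG := Uc.2.map _
  have hUU : UG ≤ U D.z := by
    rintro _ ⟨x, hx, rfl⟩
    exact mem_U H D.orderOf_z (mem_centralizer_singleton_iff.1 x.2)
      (odd_orderOf_of_mem (odd_of_pgroup hq2 hUp) (mem_map_of_mem C.subtype hx))
  have hUc : Nat.card UG = q ^ (Nat.card C).factorization q := by
    rw [hUG, card_subtype, Uc.card_eq_multiplicity]
  set R0G := (R0 : Subgroup D0).map D0.subtype with hR0G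
  have hR0c : Nat.card R0G = q ^ (Nat.card D0).factorization q := by
    rw [hR0G, card_subtype, R0.card_eq_multiplicity]
  obtain ⟨nP, hnP⟩ := IsPGroup.iff_card.1 P.2
  have hle : nP ≤ (Nat.card D0).factorization q + (Nat.card C).factorization q := by
    rw [hnP, hq.out.pow_dvd_iff_le_factorization (mul_ne_zero Nat.card_pos.ne' Nat.card_pos.ne'),
      Nat.factorization_mul Nat.card_pos.ne' Nat.card_pos.ne', Finsupp.add_apply] at hdvd
    exact hdvd
  set CP := (P : Subgroup G) ⊓ centralizer (E : Set G) with hCP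
  have hgt : Nat.card UG < Nat.card CP := by
    by_contra hlt
    rw [not_lt] at hlt
    obtain ⟨g, hg⟩ := ConjUtil.exists_conjMap_le P hUp
    set A1 := UG.map (MulAut.conj g).toMonoidHom with hA1
    have hA1c : Nat.card A1 = Nat.card UG := ConjUtil.card_conjMap g UG
    haveI : IsMulCommutative UG := IsMulCommutative.of_setLike_mul_comm fun a ha b hb =>
      (U_comm D H (hUU ha) (hUU hb)).eq
    haveI hA1comm : IsMulCommutative A1 :=
      Subgroup.map_isMulCommutative (f := (MulAut.conj g).toMonoidHom) UG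
    obtain ⟨A0, hA0⟩ := CfsgLib.PLoc.exists_isMaxAb 0 (P : Subgroup G)
    have hJ : ∀ A, CfsgLib.PLoc.IsMaxAb 0 (P : Subgroup G) A → A ≤ CP := fun A hA x hx =>
      ⟨hA.le hx, mem_centralizer_iff.2 fun e he =>
        ((zjOmega_le_zj _ he).2 x (CfsgLib.PLoc.le_joinMaxAb hA hx)).symm⟩
    have hA1max : CfsgLib.PLoc.IsMaxAb 0 (P : Subgroup G) A1 := by
      refine ⟨hg, hA1comm, fun a _ => pow_zero a, fun B hB hBc hBe => ?_⟩
      calc Nat.card B ≤ Nat.card A0 := hA0.max B hB hBc hBe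
        _ ≤ Nat.card CP := Subgroup.card_le_of_le (hJ A0 hA0)
        _ ≤ Nat.card A1 := hA1c ▸ hlt
    have hA1eq : A1 = CP := eq_of_le_of_card_ge (hJ A1 hA1max) (hA1c ▸ hlt)
    have hzC : g * D.z * g⁻¹ ∈ centralizer (E : Set G) := mem_centralizer_iff.2 fun e he => by
      have heA : e ∈ A1 := hA1eq ▸ (⟨zjOmega_le _ he, mem_centralizer_iff.2 fun y hy =>
        (CfsgLib.Signalizer.elementary_commute (zjOmega_elementary _) hy he)⟩ : e ∈ CP)
      obtain ⟨x, hx, rfl⟩ := heA
      show g * x * g⁻¹ * (g * D.z * g⁻¹) = g * D.z * g⁻¹ * (g * x * g⁻¹)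
      calc g * x * g⁻¹ * (g * D.z * g⁻¹) = g * (x * D.z) * g⁻¹ := by group
        _ = g * (D.z * x) * g⁻¹ := by rw [(commute_of_mem_U (hUU hx)).eq]
        _ = _ := by group
    exact not_odd_orderOf_two ((conj_orderOf g D.z).trans D.orderOf_z) (odd_orderOf_of_mem hCodd hzC)
  have hR0D : R0G ≤ D0 := map_subtype_le _
  obtain ⟨y, hy, hyP⟩ := hinto R0G (R0.2.map _) (hR0D.trans inf_le_left)
  set R1 := R0G.map (MulAut.conj y).toMonoidHom with hR1
  have hR1P : R1 ≤ (P : Subgroup G) := by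
    rintro _ ⟨r, hr, rfl⟩
    exact hyP r hr
  have hmeet : R1 ⊓ CP ≠ ⊥ := by
    intro hbot
    have h1 := card_mul_card_le_sup hbot
    have h2 : Nat.card (R1 ⊔ CP : Subgroup G) ≤ Nat.card (P : Subgroup G) :=
      Subgroup.card_le_of_le (sup_le hR1P inf_le_left)
    rw [hR1, ConjUtil.card_conjMap, hR0c] at h1
    have h3 : q ^ ((Nat.card D0).factorization q + (Nat.card C).factorization q) <
        q ^ (Nat.card D0).factorization q * Nat.card CP := by
      rw [pow_add, ← hUc]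
      exact Nat.mul_lt_mul_of_pos_left hgt (pow_pos hq.out.pos _)
    have h4 : Nat.card (P : Subgroup G) ≤
        q ^ ((Nat.card D0).factorization q + (Nat.card C).factorization q) :=
      hnP ▸ Nat.pow_le_pow_right hq.out.pos hle
    exact lt_irrefl _ (h3.trans_le (h1.trans (h2.trans h4)))
  obtain ⟨⟨x0, hx0⟩, hx01⟩ := Subgroup.ne_bot_iff_exists_ne_one.1 hmeet
  obtain ⟨⟨d, hd, hdx⟩, hx0CP⟩ := hx0
  obtain ⟨-, d', hd', hdd'⟩ := hR0D hd
  change y * d * y⁻¹ = x0 at hdx
  change u * d' * u⁻¹ = d at hdd'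
  have hg := hgood (g := (y * u)⁻¹) hx0CP.1 hx0CP.2 (fun h => hx01 (Subtype.ext h)) (by
    rw [← hdx, ← hdd',
      show (y * u)⁻¹ * (y * (u * d' * u⁻¹) * y⁻¹) * (y * u)⁻¹⁻¹ = d' by group]
    exact hd')
  exact huM (by simpa using mul_mem (inv_mem hy) (inv_mem_iff.1 hg))

end CfsgLib.GW.FpfFour
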